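import Groth.Agent.L28.RGamma.Qis
import Groth.Agent.L10.KInjDerived
import Groth.Agent.L00.CellTower
import Groth.Agent.L10.SheafModGroth

/-!
# The derived torsion functor is the coreflection onto complexes with torsion cohomology
-/

set_option autoImplicit false
set_option linter.style.haveILetI false
set_option linter.unusedSectionVars false
set_option backward.isDefEq.respectTransparency false
set_option backward.isDefEq.respectTransparency.types false

universe u

open CategoryTheory CategoryTheory.Limits CategoryTheory.Pretriangulated Opposite TopologicalSpace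

attribute [local instance] HasDerivedCategory.standard

set_option synthInstance.maxHeartbeats 200000
set_option maxHeartbeats 800000

noncomputable section

namespace Groth.L28.RGamma

variable {Z : TopCat.{u}} {O : Sheaf (Opens.grothendieckTopology Z) CommRingCat.{u}}

/-- The object of the derived category of a complex, through the homotopy category. -/
abbrev qq (O : Sheaf (Opens.grothendieckTopology Z) CommRingCat.{u}) :
    CochainComplex (ModSite.Mod O) ℤ ⥤ DerivedCategory (ModSite.Mod O) :=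
  HomotopyCategory.quotient (ModSite.Mod O) (ComplexShape.up ℤ) ⋙ DerivedCategory.Qh

theorem isIso_qq_map {X Y : CochainComplex (ModSite.Mod O) ℤ} (φ : X ⟶ Y) [QuasiIso φ] : IsIso ((qq O).map φ) :=
  Localization.inverts DerivedCategory.Qh (HomotopyCategory.quasiIso (ModSite.Mod O) (ComplexShape.up ℤ)) _
    ((HomotopyCategory.quotient_map_mem_quasiIso_iff φ).2 ((HomologicalComplex.mem_quasiIso_iff φ).2 ‹_›))

theorem quasiIso_of_isIso_qq_map {X Y : CochainComplex (ModSite.Mod O) ℤ} (φ : X ⟶ Y) [IsIso ((qq O).map φ)] :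
    QuasiIso φ := by
  rw [← DerivedCategory.isIso_Q_map_iff_quasiIso]
  exact (NatIso.isIso_map_iff (DerivedCategory.quotientCompQhIso (ModSite.Mod O)) φ).1 ‹_›

theorem exists_rep (K : DerivedCategory (ModSite.Mod O)) : ∃ R : CochainComplex (ModSite.Mod O) ℤ,
    R.IsKInjective ∧ (∀ n, Injective (R.X n)) ∧ Nonempty ((qq O).obj R ≅ K) := by
  haveI : IsGrothendieckAbelian.{u} (ModSite.Mod O) := Groth.L10.shMod_isGrothendieckAbelian _
  let M := DerivedCategory.Q.objPreimage K
  refine ⟨Groth.L10.KInjRes.res M, inferInstance, fun n => inferInstance, ⟨?_⟩⟩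
  exact (DerivedCategory.quotientCompQhIso _).app _ ≪≫
    (asIso (DerivedCategory.Q.map (Groth.L10.KInjRes.resι M))).symm ≪≫ DerivedCategory.Q.objObjPreimageIso K

/-- The cohomology of `qq X` is that of `X`. -/
def hmIso (X : CochainComplex (ModSite.Mod O) ℤ) (n : ℤ) : SiteCmp.HMod ((qq O).obj X) n ≅ X.homology n :=
  (DerivedCategory.homologyFunctor _ n).mapIso ((DerivedCategory.quotientCompQhIso _).app X) ≪≫
    (DerivedCategory.homologyFunctorFactors _ n).app X

variable (I : _root_.FTors.IdealFam O) [_root_.FTors.HasRgamma I]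

/-- The comparison of the torsion subcomplex with the derived functor. -/
def toR (X : CochainComplex (ModSite.Mod O) ℤ) :
    (qq O).obj (gC I X) ⟶ (_root_.FTors.Rgamma I).obj ((qq O).obj X) :=
  ((_root_.FTors.gammaKh I).totalRightDerivedUnit DerivedCategory.Qh
    (HomotopyCategory.quasiIso (ModSite.Mod O) (ComplexShape.up ℤ))).app
    ((HomotopyCategory.quotient (ModSite.Mod O) (ComplexShape.up ℤ)).obj X)

theorem toR_naturality {X Y : CochainComplex (ModSite.Mod O) ℤ} (φ : X ⟶ Y) :
    (qq O).map (((_root_.FTors.gamma O I).mapHomologicalComplex (ComplexShape.up ℤ)).map φ) ≫ toR I Y =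
      toR I X ≫ (_root_.FTors.Rgamma I).map ((qq O).map φ) :=
  ((_root_.FTors.gammaKh I).totalRightDerivedUnit DerivedCategory.Qh
    (HomotopyCategory.quasiIso (ModSite.Mod O) (ComplexShape.up ℤ))).naturality
    ((HomotopyCategory.quotient (ModSite.Mod O) (ComplexShape.up ℤ)).map φ)

theorem toR_ε (X : CochainComplex (ModSite.Mod O) ℤ) :
    toR I X ≫ (_root_.FTors.Rgammaε I).app ((qq O).obj X) = (qq O).map (gCι I X) := by
  refine ((_root_.FTors.Rgamma I).rightDerived_fac_app _ _ _ _ _).trans ?_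
  show (_root_.FTors.gammaτ0 I).app X ≫ 𝟙 _ = _
  simp [_root_.FTors.gammaτ0]
  erw [show ((_root_.FTors.gamma O I).mapHomotopyCategoryFactors (ComplexShape.up ℤ)).hom.app X = 𝟙 _ from rfl,
    CategoryTheory.Functor.map_id, Category.id_comp, ← Functor.map_comp, ← Functor.map_comp]
  congr 2

theorem isIso_toR_of_isKInjective (X : CochainComplex (ModSite.Mod O) ℤ) [X.IsKInjective] : IsIso (toR I X) := by
  haveI : IsGrothendieckAbelian.{u} (ModSite.Mod O) := Groth.L10.shMod_isGrothendieckAbelian _
  exact Groth.L10.KInjDerived.isIso_app_quotient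
    ((_root_.FTors.gammaKh I).totalRightDerivedUnit DerivedCategory.Qh
      (HomotopyCategory.quasiIso (ModSite.Mod O) (ComplexShape.up ℤ))) X

theorem isTors_HMod_rgamma (E : DerivedCategory (ModSite.Mod O)) :
    _root_.FTors.IsDTors I ((_root_.FTors.Rgamma I).obj E) := fun n => by
  obtain ⟨R, hR, -, ⟨e⟩⟩ := exists_rep E
  haveI := isIso_toR_of_isKInjective I R
  exact isTors_of_iso ((DerivedCategory.homologyFunctor _ n).mapIso
    (asIso (toR I R) ≪≫ (_root_.FTors.Rgamma I).mapIso e).symm ≪≫ hmIso (gC I R) n) (hasTorsHomology_gC R n)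

variable {I} (hI : HasCharts I)

include hI in
/-- Complexes with torsion cohomology are their own derived torsion. -/
theorem isIso_ε {E : DerivedCategory (ModSite.Mod O)} (hE : _root_.FTors.IsDTors I E) :
    IsIso ((_root_.FTors.Rgammaε I).app E) := by
  obtain ⟨R, hR, hinj, ⟨e⟩⟩ := exists_rep E
  haveI := isIso_toR_of_isKInjective I R
  haveI := quasiIso_gCι R hI hinj fun n => isTors_of_iso
    ((hmIso R n).symm ≪≫ (DerivedCategory.homologyFunctor _ n).mapIso e) (hE n)
  haveI : IsIso (toR I R ≫ (_root_.FTors.Rgammaε I).app ((qq O).obj R)) := by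
    rw [toR_ε]; exact isIso_qq_map _
  haveI := IsIso.of_isIso_comp_left (toR I R) ((_root_.FTors.Rgammaε I).app ((qq O).obj R))
  exact (NatTrans.isIso_app_iff_of_iso (_root_.FTors.Rgammaε I) e).1 inferInstance

include hI in
theorem isDTors_iff (E : DerivedCategory (ModSite.Mod O)) :
    _root_.FTors.IsDTors I E ↔ IsIso ((_root_.FTors.Rgammaε I).app E) := by
  refine ⟨fun h => isIso_ε hI h, fun h n => ?_⟩
  exact isTors_of_iso ((DerivedCategory.homologyFunctor _ n).mapIso
    (asIso ((_root_.FTors.Rgammaε I).app E)).symm) (isTors_HMod_rgamma I E n)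

section Gen

variable {C : Type*} [Category C] {G : C ⥤ C} (ε : G ⟶ 𝟭 C)

theorem map_app_eq {A P Q : C} (a : P ⟶ G.obj A) [IsIso a] (b : Q ⟶ G.obj P) [IsIso b] (i : P ⟶ A) (j : Q ⟶ P)
    (ha : a ≫ ε.app A = i) (hb : b ≫ ε.app P = j) (hn : j ≫ a = b ≫ G.map i) :
    G.map (ε.app A) = ε.app (G.obj A) := by
  refine (cancel_epi (G.map a)).1 ?_
  rw [← Functor.map_comp, ha, show G.map a ≫ ε.app (G.obj A) = ε.app P ≫ a from ε.naturality a]
  exact (cancel_epi b).1 (by rw [← hn, ← Category.assoc, hb])

theorem map_app_eq_of_iso {A F : C} (e : A ≅ F) (h : G.map (ε.app A) = ε.app (G.obj A)) :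
    G.map (ε.app F) = ε.app (G.obj F) := by
  refine (cancel_epi (G.map (G.map e.hom))).1 ?_
  rw [← Functor.map_comp, show G.map e.hom ≫ ε.app F = ε.app A ≫ e.hom from ε.naturality e.hom, Functor.map_comp, h]
  exact (ε.naturality (G.map e.hom)).symm

theorem bijective_comp_of {E F : C} [IsIso (ε.app E)] (hF : G.map (ε.app F) = ε.app (G.obj F)) :
    Function.Bijective fun φ : E ⟶ G.obj F => φ ≫ ε.app F := by
  have key : ∀ ψ : E ⟶ G.obj F, ψ = inv (ε.app E) ≫ G.map (ψ ≫ ε.app F) := fun ψ => by
    rw [Functor.map_comp, hF, IsIso.eq_inv_comp]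
    exact (ε.naturality ψ).symm
  refine ⟨fun ψ ψ' h => ?_, fun φ => ⟨inv (ε.app E) ≫ G.map φ, ?_⟩⟩
  · rw [key ψ, key ψ']
    exact congrArg (fun t => inv (ε.app E) ≫ G.map t) h
  · show (inv (ε.app E) ≫ G.map φ) ≫ ε.app F = φ
    rw [Category.assoc, show G.map φ ≫ ε.app F = ε.app E ≫ φ from ε.naturality φ, IsIso.inv_hom_id_assoc]

end Gen

theorem gamma_map_gCι (R : CochainComplex (ModSite.Mod O) ℤ) :
    ((_root_.FTors.gamma O I).mapHomologicalComplex (ComplexShape.up ℤ)).map (gCι I R) = gCι I (gC I R) := by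
  ext n : 1
  refine (cancel_mono (γI I (R.X n))).1 ?_
  exact (_root_.FTors.gammaι I).naturality (γI I (R.X n))

theorem isIso_qq_gCι_gC (R : CochainComplex (ModSite.Mod O) ℤ) : IsIso ((qq O).map (gCι I (gC I R))) := by
  haveI : ∀ n, IsIso ((gCι I (gC I R)).f n) := fun n => isIso_γI (isTors_gamma (R.X n))
  haveI := HomologicalComplex.Hom.isIso_of_components (gCι I (gC I R))
  infer_instance

include hI in
theorem isIso_toR_gC (R : CochainComplex (ModSite.Mod O) ℤ) : IsIso (toR I (gC I R)) := by
  haveI := isIso_ε hI (E := (qq O).obj (gC I R)) fun n => isTors_of_iso (hmIso (gC I R) n) (hasTorsHomology_gC R n)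
  haveI : IsIso (toR I (gC I R) ≫ (_root_.FTors.Rgammaε I).app ((qq O).obj (gC I R))) := by
    rw [toR_ε]; exact isIso_qq_gCι_gC R
  exact IsIso.of_isIso_comp_right _ ((_root_.FTors.Rgammaε I).app ((qq O).obj (gC I R)))

include hI in
theorem map_ε_eq (F : DerivedCategory (ModSite.Mod O)) :
    (_root_.FTors.Rgamma I).map ((_root_.FTors.Rgammaε I).app F) =
      (_root_.FTors.Rgammaε I).app ((_root_.FTors.Rgamma I).obj F) := by
  obtain ⟨R, hR, -, ⟨e⟩⟩ := exists_rep F
  haveI := isIso_toR_of_isKInjective I R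
  haveI := isIso_toR_gC hI R
  refine map_app_eq_of_iso _ e (map_app_eq _ (toR I R) (toR I (gC I R)) _ _ (toR_ε I R) (toR_ε I (gC I R)) ?_)
  rw [← toR_naturality, gamma_map_gCι]

include hI in
/-- The derived torsion functor is the coreflection. -/
theorem bijective_comp_ε (E F : DerivedCategory (ModSite.Mod O)) (hE : _root_.FTors.IsDTors I E) :
    Function.Bijective fun φ : E ⟶ (_root_.FTors.Rgamma I).obj F => φ ≫ (_root_.FTors.Rgammaε I).app F := by
  haveI := isIso_ε hI hE
  exact bijective_comp_of (_root_.FTors.Rgammaε I) (map_ε_eq hI F)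

end Groth.L28.RGamma
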