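import Groth.Agent.L28.FTors.ExactAdj

/-!
# Derived functors of an exact left adjoint on objects on whose cohomology the unit is an isomorphism
-/

universe w w' v v' u u'

open CategoryTheory CategoryTheory.Limits CategoryTheory.Pretriangulated

set_option autoImplicit false
set_option linter.style.haveILetI false
set_option backward.defeqAttrib.useBackward true
set_option backward.isDefEq.respectTransparency false

noncomputable section

namespace Groth.L28.ExactAdj

variable {A : Type u} [Category.{v} A] [Abelian A] {B : Type u'} [Category.{v'} B] [Abelian B]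
  {R : A ⥤ B} {L : B ⥤ A} (adj : L ⊣ R) [R.Additive] [L.Additive]
  [PreservesFiniteLimits L] [PreservesFiniteColimits L] [PreservesFiniteLimits R] [PreservesFiniteColimits R]
  [HasDerivedCategory.{w} A] [HasDerivedCategory.{w'} B]

local notation "up" => ComplexShape.up ℤ

variable (RF : DerivedCategory A ⥤ DerivedCategory B)
  (α : R.mapHomotopyCategory up ⋙ DerivedCategory.Qh ⟶ DerivedCategory.Qh ⋙ RF)
  [RF.IsRightDerivedFunctor α (HomotopyCategory.quasiIso A up)]

variable [Groth.L10.KInjDerived.EnoughKInjectives A]

/-- The unit is an isomorphism on objects on whose cohomology it is. -/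
theorem isIso_unit (X : DerivedCategory B)
    (hX : ∀ i, IsIso (adj.unit.app ((DerivedCategory.homologyFunctor B i).obj X))) :
    IsIso ((Groth.L10.DerivedAdj.derived adj RF α).unit.app X) := by
  let K := DerivedCategory.Q.objPreimage X
  let e : DerivedCategory.Qh.obj ((HomotopyCategory.quotient B up).obj K) ≅ X :=
    ((DerivedCategory.quotientCompQhIso B).app K) ≪≫ DerivedCategory.Q.objObjPreimageIso X
  refine (NatTrans.isIso_app_iff_of_iso _ e).1 ?_
  let J := (HomotopyCategory.quotient B up).obj K
  change IsIso ((Groth.L10.DerivedAdj.derived adj RF α).unit.app (DerivedCategory.Qh.obj J))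
  haveI hc : IsIso (DerivedCategory.Qh.map ((Groth.L10.DerivedAdj.homotopyAdj adj).unit.app J)) := by
    let f : K ⟶ (R.mapHomologicalComplex up).obj ((L.mapHomologicalComplex up).obj K) :=
      { f := fun i => adj.unit.app (K.X i), comm' := fun i j _ => (adj.unit.naturality _).symm }
    haveI : PreservesFiniteLimits (L ⋙ R) := comp_preservesFiniteLimits L R
    haveI : PreservesFiniteColimits (L ⋙ R) := comp_preservesFiniteColimits L R
    have hq : HomologicalComplex.quasiIso B up f := (HomologicalComplex.mem_quasiIso_iff f).2 ⟨fun i => by
      rw [quasiIsoAt_iff_isIso_homologyMap]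
      haveI : IsIso (adj.unit.app ((K.sc i).homology)) :=
        (NatTrans.isIso_app_iff_of_iso adj.unit ((DerivedCategory.homologyFunctor B i).mapIso
          (DerivedCategory.Q.objObjPreimageIso X).symm ≪≫ (DerivedCategory.homologyFunctorFactors B i).app K)).1 (hX i)
      have h2 : ShortComplex.homologyMap ((K.sc i).mapNatTrans adj.unit) =
          ((K.sc i).mapHomologyIso (𝟭 B)).hom ≫ adj.unit.app ((K.sc i).homology) ≫
            ((K.sc i).mapHomologyIso (L ⋙ R)).inv := by
        rw [NatTrans.app_homology adj.unit (K.sc i)]
        simp
      show IsIso (ShortComplex.homologyMap ((K.sc i).mapNatTrans adj.unit))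
      rw [h2]
      infer_instance⟩
    haveI := Localization.inverts DerivedCategory.Q (HomologicalComplex.quasiIso B up) f hq
    exact ((MorphismProperty.isomorphisms _).arrow_mk_iso_iff
      (Arrow.isoMk ((DerivedCategory.quotientCompQhIso B).app K) ((DerivedCategory.quotientCompQhIso B).app _)
        ((DerivedCategory.quotientCompQhIso B).hom.naturality f).symm)).2 this
  haveI := isIso_unitMap RF α ((L.mapHomotopyCategory up).obj J)
  haveI : IsIso (RF.map (L.mapDerivedCategoryFactorsh.hom.app J)) := inferInstance
  exact IsIso.of_isIso_fac_right ((Groth.L10.DerivedAdj.homotopyAdj adj).derivedη_fac_app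
    (HomotopyCategory.quasiIso B up) L.mapDerivedCategoryFactorsh.hom α J)

include adj in
/-- Maps to such objects are those between the images under the left adjoint. -/
theorem bijective_map_left (X Y : DerivedCategory B)
    (hY : ∀ i, IsIso (adj.unit.app ((DerivedCategory.homologyFunctor B i).obj Y))) :
    Function.Bijective fun φ : X ⟶ Y => L.mapDerivedCategory.map φ := by
  haveI : R.mapDerivedCategory.IsRightDerivedFunctor R.mapDerivedCategoryFactorsh.inv
      (HomotopyCategory.quasiIso A up) := Functor.isRightDerivedFunctor_of_inverts _ _ R.mapDerivedCategoryFactorsh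
  let adj' := Groth.L10.DerivedAdj.derived adj R.mapDerivedCategory R.mapDerivedCategoryFactorsh.inv
  haveI : IsIso (adj'.unit.app Y) := isIso_unit adj _ _ Y hY
  have h : (fun φ : X ⟶ Y => L.mapDerivedCategory.map φ) =
      fun φ => (adj'.homEquiv _ _).symm (φ ≫ adj'.unit.app Y) := funext fun φ => by
    rw [Adjunction.homEquiv_counit, Functor.map_comp, Category.assoc]
    exact ((congrArg (fun t => L.mapDerivedCategory.map φ ≫ t) (adj'.left_triangle_components Y)).trans
      (Category.comp_id _)).symm
  rw [h]
  exact (adj'.homEquiv _ _).symm.bijective.comp (asIso (adj'.unit.app Y)).homToEquiv.bijective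

end Groth.L28.ExactAdj
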