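import Groth.Agent.L28.RGamma.Sect
import Mathlib.Algebra.Category.ModuleCat.Presheaf.Sheafification
import Mathlib.Algebra.Category.ModuleCat.Sheaf.Abelian

/-!
# Divisibility up to torsion in injective modules
-/

set_option autoImplicit false
set_option linter.style.haveILetI false
set_option linter.unusedSectionVars false
set_option backward.isDefEq.respectTransparency false
set_option backward.isDefEq.respectTransparency.types false

universe u

open CategoryTheory CategoryTheory.Limits Opposite TopologicalSpace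

noncomputable section

namespace Groth.L28.RGamma

variable {Z : TopCat.{u}} {O : Sheaf (Opens.grothendieckTopology Z) CommRingCat.{u}}

/-- A function is locally a combination of given ones. -/
def InLoc {V : Opens Z} {m : ℕ} (gens : Fin m → OS O V) {W : Opens Z} (e : W ≤ V) (a : OS O W) : Prop :=
  ∀ x ∈ W, ∃ (W' : Opens Z) (e' : W' ≤ W), x ∈ W' ∧
    ∃ c : Fin m → OS O W', rO e' a = ∑ i, c i * rO (e'.trans e) (gens i)

/-- Colon ideals of a finitely generated ideal by powers of an element stabilise, uniformly on smaller opens. -/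
def ColonBound {V : Opens Z} {m : ℕ} (gens : Fin m → OS O V) (g : OS O V) (c : ℕ) : Prop :=
  ∀ (W : Opens Z) (e : W ≤ V) (a : OS O W) (k : ℕ),
    InLoc gens e (rO e g ^ (c + k) * a) → InLoc gens e (rO e g ^ c * a)

variable {M : ModSite.Mod O}

theorem smul_eq_zero_of_inLoc {V : Opens Z} {m : ℕ} {gens : Fin m → OS O V} {W U : Opens Z} (eW : W ≤ V)
    (s : SM M W) (hs : ∀ i, rO eW (gens i) • s = 0) (eU : U ≤ W) {a : OS O U} (ha : InLoc gens (eU.trans eW) a) :
    a • rM M eU s = 0 := by
  refine sect_ext M fun x hx => ?_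
  obtain ⟨U', e', hxU', c, hc⟩ := ha x hx
  refine ⟨U', e', hxU', ?_⟩
  rw [rM_smul, hc, Finset.sum_smul, rM_zero, rM_rM]
  refine Finset.sum_eq_zero fun i _ => ?_
  rw [mul_smul, ← rO_rO eW (e'.trans eU), ← rM_smul, hs i, rM_zero, smul_zero]

/-- Presheaves of modules underlying injective sheaves of modules are injective. -/
theorem injective_val (M : ModSite.Mod O) [Injective M] : Injective M.val := by
  have h := Injective.injective_of_adjoint
    (PresheafOfModules.sheafificationAdjunction (R := ModSite.ringSh O) (𝟙 (ModSite.ringSh O).obj)) M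
  exact h

variable {V : Opens Z} {m : ℕ} (gens : Fin m → OS O V) (g : OS O V) {c : ℕ} {W : Opens Z} (eW : W ≤ V) (k : ℕ)
  (s : SM M W)

/-- The functions on opens of the given one, extended by zero. -/
def below (W : Opens Z) : (SheafOfModules.unit (ModSite.ringSh O)).val.Submodule where
  obj U :=
    { carrier := {a | ¬ U.unop ≤ W → (show OS O U.unop from a) = 0}
      add_mem' := fun {a b} ha hb h => by
        show (show OS O U.unop from a) + (show OS O U.unop from b) = 0
        rw [ha h, hb h, add_zero]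
      zero_mem' := fun _ => rfl
      smul_mem' := fun r a ha h => by
        show (show OS O U.unop from r) * (show OS O U.unop from a) = 0
        rw [ha h, mul_zero] }
  map {U U'} i a ha h := by
    show (O.obj.map i).hom (show OS O U.unop from a) = 0
    rw [ha fun hU => h ((leOfHom i.unop).trans hU), map_zero]

/-- The graph of the map to be extended. -/
def Rel (U : Opens Z) (a : OS O U) (v : SM M U) : Prop :=
  (¬ U ≤ W → a = 0 ∧ v = 0) ∧ ∀ e : U ≤ W, ∃ (b : OS O U) (d : Fin m → OS O U),
    a = rO (e.trans eW) g ^ (c + k) * b + ∑ i, d i * rO (e.trans eW) (gens i) ∧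
      v = (rO (e.trans eW) g ^ c * b) • rM M e s

variable {gens g eW k s}

theorem Rel.add {U : Opens Z} {a a' : OS O U} {v v' : SM M U} (h : Rel gens g (c := c) eW k s U a v)
    (h' : Rel gens g (c := c) eW k s U a' v') : Rel gens g (c := c) eW k s U (a + a') (v + v') := by
  refine ⟨fun hU => ⟨by rw [(h.1 hU).1, (h'.1 hU).1, add_zero], by rw [(h.1 hU).2, (h'.1 hU).2, add_zero]⟩,
    fun e => ?_⟩
  obtain ⟨b, d, rfl, rfl⟩ := h.2 e
  obtain ⟨b', d', rfl, rfl⟩ := h'.2 e
  refine ⟨b + b', d + d', ?_, by rw [mul_add, add_smul]⟩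
  simp only [Pi.add_apply, add_mul, Finset.sum_add_distrib]
  ring

theorem Rel.zero (U : Opens Z) : Rel gens g (c := c) eW k s U 0 0 :=
  ⟨fun _ => ⟨rfl, rfl⟩, fun _ => ⟨0, 0, by simp, by simp⟩⟩

theorem Rel.smul {U : Opens Z} {a : OS O U} {v : SM M U} (r : OS O U) (h : Rel gens g (c := c) eW k s U a v) :
    Rel gens g (c := c) eW k s U (r * a) (r • v) := by
  refine ⟨fun hU => ⟨by rw [(h.1 hU).1, mul_zero], by rw [(h.1 hU).2, smul_zero]⟩, fun e => ?_⟩
  obtain ⟨b, d, rfl, rfl⟩ := h.2 e
  refine ⟨r * b, fun i => r * d i, ?_, by rw [← mul_smul]; ring_nf⟩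
  rw [mul_add, Finset.mul_sum]
  congr 1
  · ring
  · exact Finset.sum_congr rfl fun i _ => by ring

theorem Rel.res {U U' : Opens Z} (e' : U' ≤ U) {a : OS O U} {v : SM M U} (h : Rel gens g (c := c) eW k s U a v) :
    Rel gens g (c := c) eW k s U' (rO e' a) (rM M e' v) := by
  refine ⟨fun hU => ?_, fun e => ?_⟩
  · obtain ⟨ha, hv⟩ := h.1 fun hh => hU (e'.trans hh)
    rw [ha, hv, map_zero, rM_zero]
    exact ⟨rfl, rfl⟩
  · by_cases hUW : U ≤ W
    · obtain ⟨b, d, rfl, rfl⟩ := h.2 hUW
      refine ⟨rO e' b, fun i => rO e' (d i), ?_, ?_⟩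
      · simp only [map_add, map_mul, map_pow, map_sum, rO_rO]
      · rw [rM_smul, map_mul, map_pow, rO_rO, rM_rM]
    · obtain ⟨ha, hv⟩ := h.1 hUW
      rw [ha, hv, map_zero, rM_zero]
      exact ⟨0, 0, by simp, by simp⟩

theorem Rel.unique (hc : ColonBound gens g c) (hs : ∀ i, rO eW (gens i) • s = 0) {U : Opens Z} {a : OS O U}
    {v v' : SM M U} (h : Rel gens g (c := c) eW k s U a v) (h' : Rel gens g (c := c) eW k s U a v') : v = v' := by
  by_cases e : U ≤ W
  · obtain ⟨b, d, rfl, rfl⟩ := h.2 e
    obtain ⟨b', d', hb, rfl⟩ := h'.2 e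
    have h0 : InLoc gens (e.trans eW) (rO (e.trans eW) g ^ (c + k) * (b - b')) := fun x hx =>
      ⟨U, le_rfl, hx, fun i => d' i - d i, by
        rw [rO_self]
        simp only [sub_mul, Finset.sum_sub_distrib, mul_sub]
        linear_combination hb⟩
    have h1 := smul_eq_zero_of_inLoc eW s hs e (hc U (e.trans eW) _ k h0)
    rwa [mul_sub, sub_smul, sub_eq_zero] at h1
  · rw [(h.1 e).2, (h'.1 e).2]

variable (gens g eW k s)

/-- The ideal on which the map is given. -/
def dom : (SheafOfModules.unit (ModSite.ringSh O)).val.Submodule where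
  obj U :=
    { carrier := {a | ∃ v : SM M U.unop, Rel gens g (c := c) eW k s U.unop a v}
      add_mem' := fun ⟨v, hv⟩ ⟨v', hv'⟩ => ⟨v + v', hv.add hv'⟩
      zero_mem' := ⟨0, Rel.zero U.unop⟩
      smul_mem' := fun r a ⟨v, hv⟩ => ⟨(show OS O U.unop from r) • v, hv.smul r⟩ }
  map {U U'} i a := fun ⟨v, hv⟩ => ⟨rM M (leOfHom i.unop) v, hv.res (leOfHom i.unop)⟩

theorem dom_le : dom gens g (c := c) eW k s ≤ below (O := O) W :=
  fun U a ⟨_, hv⟩ h => (hv.1 h).1

/-- An injective module is divisible up to torsion, uniformly. -/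
theorem exists_divide [Injective M] (hc : ColonBound gens g c) (hs : ∀ i, rO eW (gens i) • s = 0) :
    ∃ t : SM M W, rO eW g ^ (c + k) • t = rO eW g ^ c • s ∧ ∀ i, rO eW (gens i) • t = 0 := by
  classical
  haveI := injective_val M
  let q : (dom gens g (c := c) eW k s).toPresheafOfModules ⟶ M.val := PresheafOfModules.homMk
    { app := fun U => AddCommGrpCat.ofHom
        { toFun := fun a => a.2.choose
          map_zero' := Rel.unique hc hs (Exists.choose_spec (⟨0, Rel.zero U.unop⟩ : ∃ v, _)) (Rel.zero U.unop)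
          map_add' := fun a b => Rel.unique hc hs (Exists.choose_spec (a + b).2)
            (a.2.choose_spec.add b.2.choose_spec) }
      naturality := fun U U' i => by
        ext a
        exact Rel.unique hc hs (Exists.choose_spec (_ : ∃ v, Rel gens g (c := c) eW k s U'.unop _ v))
          (a.2.choose_spec.res (leOfHom i.unop)) }
    fun U r a => Rel.unique hc hs (Exists.choose_spec (r • a).2) (a.2.choose_spec.smul r)
  let ι' := PresheafOfModules.Submodule.homOfLE (dom_le gens g (c := c) eW k s)
  let φ := Injective.factorThru q ι'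
  let one : (below (O := O) W).obj (op W) := ⟨(1 : OS O W), fun h => absurd le_rfl h⟩
  let t : SM M W := (φ.app (op W)).hom one
  have key : ∀ (a : OS O W) (v : SM M W), Rel gens g (c := c) eW k s W a v → a • t = v := by
    intro a v h
    let a' : (dom gens g (c := c) eW k s).obj (op W) := ⟨a, v, h⟩
    have h1 : (φ.app (op W)).hom ((ι'.app (op W)).hom a') = (q.app (op W)).hom a' :=
      LinearMap.congr_fun (congrArg (fun f : _ ⟶ M.val => (f.app (op W)).hom) (Injective.comp_factorThru q ι')) a'
    have h2 : (ι'.app (op W)).hom a' = (show (ModSite.ringSh O).obj.obj (op W) from a) • one :=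
      Subtype.ext (mul_one a).symm
    rw [h2, map_smul] at h1
    exact h1.trans (Rel.unique hc hs a'.2.choose_spec h)
  refine ⟨t, key _ _ ⟨fun h => absurd le_rfl h, fun e => ⟨1, 0, by simp, by rw [mul_one, rM_self]⟩⟩,
    fun i => key _ _ ⟨fun h => absurd le_rfl h, fun e => ⟨0, Pi.single i 1, ?_, by simp⟩⟩⟩
  rw [mul_zero, zero_add, Finset.sum_eq_single i (fun j _ hj => by simp [Pi.single_eq_of_ne hj])
    (fun h => absurd (Finset.mem_univ i) h), Pi.single_eq_same, one_mul]

end Groth.L28.RGamma
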