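import Groth.Agent.L28.RGamma.Key
import Groth.Agent.L09.IndCoh.Rel
import Groth.Agent.L17.FSheaf.UnitCoh
import Mathlib.RingTheory.Ideal.Colon
import Mathlib.RingTheory.Ideal.Operations

/-!
# Affine opens of formal schemes as charts
-/

set_option autoImplicit false
set_option linter.style.haveILetI false
set_option linter.unusedSectionVars false
set_option backward.isDefEq.respectTransparency false
set_option backward.isDefEq.respectTransparency.types false

universe u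

open CategoryTheory CategoryTheory.Limits AlgebraicGeometry TopologicalSpace Opposite

noncomputable section

namespace Groth.L28.RGamma

open Groth.L17.FSheaf Groth.L09.IndCoh

variable {𝔛 : FSch.Sys.{u}} (hX : 𝔛.IsLocNoethFormal)

theorem inLoc_of_mem {V W : (𝔛.X 0).Opens} {m : ℕ} {gens : Fin m → O 𝔛 hX.1 V} {e : W ≤ V} {a : O 𝔛 hX.1 W}
    (h : ∀ x ∈ W, ∃ (W' : (𝔛.X 0).Opens) (e' : W' ≤ W), x ∈ W' ∧
      resO 𝔛 hX.1 e' a ∈ Ideal.span (Set.range fun i => resO 𝔛 hX.1 (e'.trans e) (gens i))) :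
    InLoc (O := 𝔛.Osh hX.1) gens e a := fun x hx => by
  obtain ⟨W', e', hx', hmem⟩ := h x hx
  obtain ⟨c, hc⟩ := (Submodule.mem_span_range_iff_exists_fun _).1 hmem
  exact ⟨W', e', hx', c, hc.symm⟩

/-- Colon ideals by the powers of an element stabilise in a Noetherian ring. -/
theorem exists_colon_bound {A : Type*} [CommRing A] [IsNoetherianRing A] (K : Ideal A) (g : A) :
    ∃ c : ℕ, ∀ (k : ℕ) (a : A), g ^ (c + k) * a ∈ K → g ^ c * a ∈ K := by
  let S : ℕ →o Ideal A :=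
    { toFun := fun n =>
        { carrier := {a | g ^ n * a ∈ K}
          add_mem' := fun {a b} ha hb => by
            show g ^ n * (a + b) ∈ K
            rw [mul_add]; exact add_mem ha hb
          zero_mem' := by
            show g ^ n * 0 ∈ K
            rw [mul_zero]; exact zero_mem _
          smul_mem' := fun r a ha => by
            show g ^ n * (r * a) ∈ K
            rw [mul_left_comm]; exact K.mul_mem_left r ha }
      monotone' := monotone_nat_of_le_succ fun n a ha => by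
        show g ^ (n + 1) * a ∈ K
        rw [pow_succ', mul_assoc]
        exact K.mul_mem_left g ha }
  obtain ⟨c, hc⟩ := monotone_stabilizes_iff_noetherian.2 inferInstance S
  exact ⟨c, fun k a ha => (SetLike.ext_iff.1 (hc (c + k) (Nat.le_add_right c k)) a).2 ha⟩

theorem exists_colonBound {U : (𝔛.X 0).Opens} (hU : IsAffineOpen U) {m : ℕ} (gens : Fin m → O 𝔛 hX.1 U)
    (g : O 𝔛 hX.1 U) : ∃ c, ColonBound (O := 𝔛.Osh hX.1) gens g c := by
  haveI := (O_spec 𝔛 hX hU).1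
  obtain ⟨c, hc⟩ := exists_colon_bound (Ideal.span (Set.range gens)) g
  refine ⟨c, fun W e a k ha => inLoc_of_mem hX fun x hx => ?_⟩
  obtain ⟨W₁, e₁, hx₁, d, hd⟩ := ha x hx
  let H : FSch.ModF 𝔛 hX.1 := SheafOfModules.unit (ModSite.ringSh (𝔛.Osh hX.1))
  have hH : FSch.IsCohF 𝔛 hX.1 H := isFinitePresentation_unit (𝔛.Osh hX.1)
  let y : Fin (m + 1) → SF 𝔛 hX.1 H U := fun i =>
    (Fin.cases (g ^ (c + k)) gens i : O 𝔛 hX.1 U)
  let v : Fin (m + 1) → O 𝔛 hX.1 W₁ := fun i => Fin.cases (resO 𝔛 hX.1 e₁ a) (fun j => -d j) i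
  have hv : ∑ i, v i • rsF H (e₁.trans e) (y i) = 0 := by
    show ∑ i, v i * resO 𝔛 hX.1 (e₁.trans e) (Fin.cases (g ^ (c + k)) gens i) = 0
    rw [Fin.sum_univ_succ]
    simp only [v, Fin.cases_zero, Fin.cases_succ, neg_mul, Finset.sum_neg_distrib]
    rw [← sub_eq_add_neg, sub_eq_zero, map_pow, mul_comm]
    have h1 : resO 𝔛 hX.1 e₁ (resO 𝔛 hX.1 e g ^ (c + k) * a) = ∑ i, d i * resO 𝔛 hX.1 (e₁.trans e) (gens i) := hd
    rwa [map_mul, map_pow, resO_resO] at h1
  obtain ⟨W₂, e₂, hx₂, hmem⟩ := relGen_coh hX hH hU y (e₁.trans e) v hv x hx₁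
  refine ⟨W₂, e₂.trans e₁, hx₂, ?_⟩
  show resO 𝔛 hX.1 (e₂.trans e₁) (resO 𝔛 hX.1 e g ^ c * a) ∈ _
  rw [map_mul, map_pow, resO_resO, ← resO_resO e₁ e₂ a]
  have hP : ∀ w ∈ resRels H (e₂.trans (e₁.trans e)) y,
      resO 𝔛 hX.1 ((e₂.trans e₁).trans e) g ^ c * w 0 ∈
        Ideal.span (Set.range fun i => resO 𝔛 hX.1 ((e₂.trans e₁).trans e) (gens i)) := by
    intro w hw
    induction hw using Submodule.span_induction with
    | mem w hw =>
      obtain ⟨r, hr, rfl⟩ := hw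
      have h0 : ∑ i, r i * (Fin.cases (g ^ (c + k)) gens i : O 𝔛 hX.1 U) = 0 := mem_Rels.1 hr
      rw [Fin.sum_univ_succ] at h0
      simp only [Fin.cases_zero, Fin.cases_succ] at h0
      have h1 : g ^ c * r 0 ∈ Ideal.span (Set.range gens) := by
        refine hc k (r 0) ?_
        rw [mul_comm, eq_neg_of_add_eq_zero_left h0]
        exact neg_mem (Submodule.sum_mem _ fun i _ => Ideal.mul_mem_left _ _ (Ideal.subset_span ⟨i, rfl⟩))
      have h2 := Ideal.mem_map_of_mem (resO 𝔛 hX.1 ((e₂.trans e₁).trans e)) h1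
      rw [map_mul, map_pow, Ideal.map_span, ← Set.range_comp] at h2
      exact h2
    | zero => rw [Pi.zero_apply, mul_zero]; exact zero_mem _
    | add w w' _ _ hw hw' => rw [Pi.add_apply, mul_add]; exact add_mem hw hw'
    | smul r w _ hw =>
      rw [Pi.smul_apply, smul_eq_mul, mul_left_comm]
      exact Ideal.mul_mem_left _ _ hw
  exact hP _ hmem

theorem chart_of_span {U : (𝔛.X 0).Opens} (hU : IsAffineOpen U) {r : ℕ} (f : Fin r → O 𝔛 hX.1 U)
    (hf : Ideal.span (Set.range f) = J 𝔛 hX.1 U) : Chart (_root_.FTors.openIdealFam 𝔛 hX.1) U f := by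
  obtain ⟨hN, -, hker⟩ := O_spec 𝔛 hX hU
  haveI := hN
  refine ⟨fun n => ⟨n + 1, fun i => ?_⟩, fun N => ?_, fun gens g => exists_colonBound hX hU gens g⟩
  · rw [_root_.FTors.mem_openIdealFam_iff]
    show pR 𝔛 hX.1 n U (f i ^ (n + 1)) = 0
    rw [← RingHom.mem_ker, hker n]
    exact Ideal.pow_mem_pow (hf ▸ Submodule.subset_span ⟨i, rfl⟩) _
  · obtain ⟨n, hn⟩ := Ideal.exists_pow_le_of_le_radical_of_fg (I := J 𝔛 hX.1 U)
      (J := Ideal.span (Set.range fun i => f i ^ N)) (by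
        conv_lhs => rw [← hf]
        refine Submodule.span_le.2 ?_
        rintro _ ⟨i, rfl⟩
        exact ⟨N, Ideal.subset_span ⟨i, rfl⟩⟩) (IsNoetherian.noetherian _)
    refine ⟨n, fun W e a ha => inLoc_of_mem hX fun x hx => ?_⟩
    obtain ⟨W', hW', hxW', hle⟩ := Opens.isBasis_iff_nbhd.1 (𝔛.X 0).isBasis_affineOpens hx
    refine ⟨W', hle, hxW', ?_⟩
    have h1 : resO 𝔛 hX.1 hle a ∈ (J 𝔛 hX.1 U ^ (n + 1)).map (resO 𝔛 hX.1 (hle.trans e)) := by
      rw [Ideal.map_pow, ← J_eq_map 𝔛 hX hU hW' (hle.trans e), ← (O_spec 𝔛 hX hW').2.2 n, RingHom.mem_ker,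
        pR_resO, show pR 𝔛 hX.1 n W a = 0 from (_root_.FTors.mem_openIdealFam_iff 𝔛 hX.1 n W a).1 ha]
      exact map_zero _
    have h2 := Ideal.map_mono ((Ideal.pow_le_pow_right (Nat.le_succ n)).trans hn) h1
    rw [Ideal.map_span, ← Set.range_comp] at h2
    exact h2

theorem exists_chart {U : (𝔛.X 0).Opens} (hU : IsAffineOpen U) :
    ∃ (r : ℕ) (f : Fin r → O 𝔛 hX.1 U), Chart (_root_.FTors.openIdealFam 𝔛 hX.1) U f := by
  haveI := (O_spec 𝔛 hX hU).1
  obtain ⟨r, f, hf⟩ := Submodule.fg_iff_exists_fin_generating_family.1 (IsNoetherian.noetherian (J 𝔛 hX.1 U))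
  exact ⟨r, f, chart_of_span hX hU f hf⟩

theorem hasCharts : HasCharts (_root_.FTors.openIdealFam 𝔛 hX.1) := fun x => by
  obtain ⟨U, hU, hxU, -⟩ := Opens.isBasis_iff_nbhd.1 (𝔛.X 0).isBasis_affineOpens (Opens.mem_top x)
  obtain ⟨r, f, hf⟩ := exists_chart hX hU
  exact ⟨U, r, f, hxU, hf⟩

end Groth.L28.RGamma
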