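import Mathlib.RingTheory.Flat.Basic
import Mathlib.LinearAlgebra.TensorProduct.RightExactness
import Mathlib.Algebra.Homology.HomologicalComplex
import Mathlib.Algebra.Category.ModuleCat.Basic
import Mathlib.Tactic.Abel

/-!
# Elements killed by powers of some functions, their behaviour under flat base change and in complexes
-/

set_option autoImplicit false
set_option linter.unusedSectionVars false

universe u

open CategoryTheory TensorProduct

noncomputable section

namespace Groth.L28.RGamma.Gam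

variable {A : Type u} [CommRing A] {r : ℕ} (f : Fin r → A) (M : Type u) [AddCommGroup M] [Module A M]

/-- The elements killed by powers of the first `j` functions. -/
def gam (j : ℕ) : Submodule A M where
  carrier := {s | ∃ N, ∀ i : Fin r, i.val < j → f i ^ N • s = 0}
  add_mem' := by
    rintro s t ⟨a, ha⟩ ⟨b, hb⟩
    refine ⟨a + b, fun i hi => ?_⟩
    rw [smul_add, pow_add, mul_comm, mul_smul, ha i hi, smul_zero, zero_add, mul_comm, mul_smul, hb i hi, smul_zero]
  zero_mem' := ⟨0, fun _ _ => smul_zero _⟩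
  smul_mem' := by
    rintro c s ⟨a, ha⟩
    exact ⟨a, fun i hi => by rw [smul_comm, ha i hi, smul_zero]⟩

theorem mem_gam {j : ℕ} {s : M} : s ∈ gam f M j ↔ ∃ N, ∀ i : Fin r, i.val < j → f i ^ N • s = 0 := Iff.rfl

theorem mem_gam_succ {j : ℕ} (hj : j < r) {s : M} :
    s ∈ gam f M (j + 1) ↔ s ∈ gam f M j ∧ ∃ q, f ⟨j, hj⟩ ^ q • s = 0 := by
  refine ⟨fun ⟨N, hN⟩ => ⟨⟨N, fun i hi => hN i (by omega)⟩, N, hN ⟨j, hj⟩ (Nat.lt_succ_self j)⟩, ?_⟩
  rintro ⟨⟨N, hN⟩, q, hq⟩
  refine ⟨N + q, fun i hi => ?_⟩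
  rcases Nat.lt_succ_iff_lt_or_eq.1 hi with h | h
  · rw [pow_add, mul_comm, mul_smul, hN i h, smul_zero]
  · rw [show i = ⟨j, hj⟩ from Fin.ext h, pow_add, mul_smul, hq, smul_zero]

theorem map_mem_gam {N : Type u} [AddCommGroup N] [Module A N] (φ : M →ₗ[A] N) {j : ℕ} {s : M} (hs : s ∈ gam f M j) :
    φ s ∈ gam f N j := by
  obtain ⟨n, hn⟩ := hs
  exact ⟨n, fun i hi => by rw [← map_smul, hn i hi, map_zero]⟩

theorem gam_zero (s : M) : s ∈ gam f M 0 := ⟨0, fun _ hi => absurd hi (Nat.not_lt_zero _)⟩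

/-- Elements killed by powers of the first functions may be divided by powers of the next one. -/
def Div : Prop :=
  ∀ (j : ℕ) (hj : j < r), ∀ s ∈ gam f M j, ∀ k : ℕ, ∃ c, ∃ t ∈ gam f M j,
    f ⟨j, hj⟩ ^ (c + k) • t = f ⟨j, hj⟩ ^ c • s

variable {f M}

theorem smul_eq_of_le {g : A} {a b c : ℕ} {s t : M} (h : g ^ (a + b) • t = g ^ a • s) (hac : a ≤ c) :
    g ^ (c + b) • t = g ^ c • s := by
  obtain ⟨d, rfl⟩ := Nat.exists_eq_add_of_le hac
  rw [show a + d + b = d + (a + b) by omega, pow_add, mul_smul, h, ← mul_smul, ← pow_add, Nat.add_comm d a]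

section BaseChange

variable {B : Type u} [CommRing B] [Algebra A B]

theorem smul_tmul_eq (a : A) (x : B ⊗[A] M) : algebraMap A B a • x = (a • LinearMap.id (R := A) (M := M)).lTensor B x := by
  induction x using TensorProduct.induction_on with
  | zero => simp
  | tmul b m =>
    rw [LinearMap.lTensor_tmul, smul_tmul', LinearMap.smul_apply, LinearMap.id_apply, ← TensorProduct.smul_tmul,
      algebraMap_smul]
  | add x y hx hy => rw [smul_add, hx, hy, map_add]

theorem lTensor_mem_gam {j : ℕ} (x : B ⊗[A] (gam f M j)) :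
    ((gam f M j).subtype.lTensor B x) ∈ gam (fun i => algebraMap A B (f i)) (B ⊗[A] M) j := by
  induction x using TensorProduct.induction_on with
  | zero => simp
  | tmul b m =>
    obtain ⟨N, hN⟩ := m.2
    refine ⟨N, fun i hi => ?_⟩
    rw [LinearMap.lTensor_tmul, ← map_pow, smul_tmul_eq, LinearMap.lTensor_tmul]
    show b ⊗ₜ[A] (f i ^ N • (m : M)) = 0
    rw [hN i hi, tmul_zero]
  | add x y hx hy => rw [map_add]; exact Submodule.add_mem _ hx hy

variable [Module.Flat A B]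

theorem exists_lTensor_gam : ∀ {j : ℕ}, j ≤ r → ∀ (z : B ⊗[A] M),
    z ∈ gam (fun i => algebraMap A B (f i)) (B ⊗[A] M) j → ∃ x, (gam f M j).subtype.lTensor B x = z := by
  intro j
  induction j with
  | zero =>
    intro _ z _
    have htop : gam f M 0 = ⊤ := eq_top_iff.2 fun s _ => gam_zero f M s
    exact LinearMap.lTensor_surjective B (fun m => ⟨⟨m, htop ▸ Submodule.mem_top⟩, rfl⟩) z
  | succ j ih =>
    intro hj z hz
    obtain ⟨hz', q, hq⟩ := (mem_gam_succ _ _ (show j < r from hj)).1 hz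
    obtain ⟨x, rfl⟩ := ih (Nat.le_of_succ_le hj) z hz'
    let g : A := f ⟨j, hj⟩ ^ q
    let φ : gam f M j →ₗ[A] gam f M j := g • LinearMap.id
    have hx : φ.lTensor B x = 0 := by
      refine Module.Flat.lTensor_preserves_injective_linearMap (M := B) (gam f M j).subtype
        (Submodule.injective_subtype _) ?_
      rw [map_zero, ← hq, ← map_pow, smul_tmul_eq, ← LinearMap.lTensor_comp_apply, ← LinearMap.lTensor_comp_apply]
      rfl
    obtain ⟨y, rfl⟩ := (Module.Flat.lTensor_exact B (LinearMap.exact_subtype_ker_map φ) x).1 hx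
    let ι : LinearMap.ker φ →ₗ[A] gam f M (j + 1) :=
      LinearMap.codRestrict _ ((gam f M j).subtype ∘ₗ (LinearMap.ker φ).subtype) fun w =>
        (mem_gam_succ f M hj).2 ⟨w.1.2, q, congrArg Subtype.val (LinearMap.mem_ker.1 w.2)⟩
    refine ⟨ι.lTensor B y, ?_⟩
    rw [← LinearMap.lTensor_comp_apply, ← LinearMap.lTensor_comp_apply]
    rfl

theorem div_baseChange (h : Div f M) : Div (fun i => algebraMap A B (f i)) (B ⊗[A] M) := by
  intro j hj z hz k
  obtain ⟨x, rfl⟩ := exists_lTensor_gam hj.le z hz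
  clear hz
  induction x using TensorProduct.induction_on with
  | zero => exact ⟨0, 0, Submodule.zero_mem _, by simp⟩
  | tmul b m =>
    obtain ⟨c, t, ht, hct⟩ := h j hj m m.2 k
    refine ⟨c, b ⊗ₜ[A] t, ?_, ?_⟩
    · simpa using lTensor_mem_gam (f := f) (b ⊗ₜ[A] (⟨t, ht⟩ : gam f M j))
    · rw [← map_pow, ← map_pow, smul_tmul_eq, smul_tmul_eq, LinearMap.lTensor_tmul, LinearMap.lTensor_tmul,
        LinearMap.lTensor_tmul]
      exact congrArg (fun m => b ⊗ₜ[A] m) hct
  | add x y hx hy =>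
    obtain ⟨c, t, ht, h1⟩ := hx
    obtain ⟨c', t', ht', h2⟩ := hy
    refine ⟨max c c', t + t', Submodule.add_mem _ ht ht', ?_⟩
    rw [map_add, smul_add, smul_add, smul_eq_of_le h1 (le_max_left c c'), smul_eq_of_le h2 (le_max_right c c')]

end BaseChange

section Iso

variable {N : Type u} [AddCommGroup N] [Module A N]

theorem div_of_equiv (e : M ≃ₗ[A] N) (h : Div f M) : Div f N := by
  intro j hj s hs k
  obtain ⟨c, t, ht, hct⟩ := h j hj (e.symm s) (map_mem_gam f N (e.symm : N →ₗ[A] M) hs) k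
  refine ⟨c, e t, map_mem_gam f M (e : M →ₗ[A] N) ht, ?_⟩
  rw [← map_smul, hct, map_smul, e.apply_symm_apply]

end Iso

section Complex

variable {C D : CochainComplex (ModuleCat.{u} A) ℤ} (φ : C ⟶ D) (f)

/-- Cycles killed by powers of the first functions are hit up to boundaries of such elements. -/
def Surj (j : ℕ) : Prop :=
  ∀ (i n k : ℤ), i + 1 = n → n + 1 = k → ∀ z' ∈ gam f (D.X n) j, D.d n k z' = 0 →
    ∃ z ∈ gam f (C.X n) j, ∃ y ∈ gam f (D.X i) j, C.d n k z = 0 ∧ z' = φ.f n z + D.d i n y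

/-- Such cycles mapping to such boundaries are such boundaries. -/
def Inj (j : ℕ) : Prop :=
  ∀ (i n k : ℤ), i + 1 = n → n + 1 = k → ∀ z ∈ gam f (C.X n) j, C.d n k z = 0 →
    ∀ y' ∈ gam f (D.X i) j, φ.f n z = D.d i n y' → ∃ y ∈ gam f (C.X i) j, z = C.d i n y

variable {f φ}

theorem dd (E : CochainComplex (ModuleCat.{u} A) ℤ) (i n k : ℤ) (x : E.X i) : E.d n k (E.d i n x) = 0 := by
  have h : E.d i n ≫ E.d n k = 0 := E.d_comp_d i n k
  exact congrArg (fun g : E.X i ⟶ E.X k => g x) h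

theorem fd (i n : ℤ) (x : C.X i) : φ.f n (C.d i n x) = D.d i n (φ.f i x) :=
  congrArg (fun g : C.X i ⟶ D.X n => g x) (φ.comm i n).symm

theorem succ_step {j : ℕ} (hj : j < r) (hC : ∀ n, Div f (C.X n)) (hD : ∀ n, Div f (D.X n))
    (hS : Surj f φ j) (hI : Inj f φ j) : Surj f φ (j + 1) ∧ Inj f φ (j + 1) := by
  let g := f ⟨j, hj⟩
  have down : ∀ {E : Type u} [AddCommGroup E] [Module A E] {s : E}, s ∈ gam f E (j + 1) →
      s ∈ gam f E j ∧ ∃ q, g ^ q • s = 0 := fun hs => (mem_gam_succ f _ hj).1 hs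
  constructor
  · intro i n k hin hnk z' hz' hz'c
    obtain ⟨hz'j, N, hN⟩ := down hz'
    obtain ⟨z, hz, y, hy, hzc, hzy⟩ := hS i n k hin hnk z' hz'j hz'c
    obtain ⟨w, hw, hwz⟩ := hI i n k hin hnk (g ^ N • z) (Submodule.smul_mem _ _ hz)
      (by rw [map_smul, hzc, smul_zero]) (-(g ^ N • y)) (Submodule.neg_mem _ (Submodule.smul_mem _ _ hy))
      (by rw [map_smul, map_neg, map_smul, eq_neg_iff_add_eq_zero, ← smul_add, ← hzy, hN])
    obtain ⟨c, t, ht, hct⟩ := hC i j hj w hw N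
    have hz1 : g ^ (c + N) • (z - C.d i n t) = 0 := by
      rw [smul_sub, ← map_smul, hct, map_smul, ← hwz, ← mul_smul, ← pow_add, sub_self]
    let u := y + φ.f i t
    have hu : u ∈ gam f (D.X i) j := Submodule.add_mem _ hy (map_mem_gam f _ (φ.f i).hom ht)
    have hzu : z' = φ.f n (z - C.d i n t) + D.d i n u := by
      rw [map_sub, fd, map_add, hzy]
      abel
    obtain ⟨v, hv, y2, hy2, hvc, hv'⟩ := hS (i - 1) i n (by omega) hin (g ^ (N + (c + N)) • u)
      (Submodule.smul_mem _ _ hu) (by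
        rw [map_smul, show D.d i n u = z' - φ.f n (z - C.d i n t) from eq_sub_of_add_eq' hzu.symm, smul_sub,
          pow_add, mul_smul, mul_smul, smul_comm (g ^ N) (g ^ (c + N)) z', hN, smul_zero, ← map_smul (φ.f n).hom,
          hz1, map_zero, smul_zero, sub_zero])
    obtain ⟨c1, t1, ht1, hct1⟩ := hC i j hj v hv (N + (c + N))
    obtain ⟨c2, t2, ht2, hct2⟩ := hD (i - 1) j hj y2 hy2 (N + (c + N))
    refine ⟨z - C.d i n t + C.d i n t1, ?_, u - φ.f i t1 - D.d (i - 1) i t2, ?_, ?_, ?_⟩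
    · refine Submodule.add_mem _ ((mem_gam_succ f _ hj).2
        ⟨Submodule.sub_mem _ hz (map_mem_gam f _ (C.d i n).hom ht), c + N, hz1⟩)
        ((mem_gam_succ f _ hj).2 ⟨map_mem_gam f _ (C.d i n).hom ht1, c1 + (N + (c + N)), ?_⟩)
      rw [← map_smul, hct1, map_smul, hvc, smul_zero]
    · refine (mem_gam_succ f _ hj).2 ⟨Submodule.sub_mem _ (Submodule.sub_mem _ hu (map_mem_gam f _ (φ.f i).hom ht1))
        (map_mem_gam f _ (D.d (i - 1) i).hom ht2), max c1 c2 + (N + (c + N)), ?_⟩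
      rw [smul_sub, smul_sub, ← map_smul (φ.f i).hom, ← map_smul (D.d (i - 1) i).hom,
        smul_eq_of_le hct1 (le_max_left c1 c2), smul_eq_of_le hct2 (le_max_right c1 c2), pow_add, mul_smul, hv',
        map_smul, map_smul, smul_add]
      abel
    · rw [map_add, map_sub, hzc, dd, dd, sub_zero, add_zero]
    · rw [map_sub, map_sub, ← fd, dd, sub_zero, map_add, hzu]
      abel
  · intro i n k hin hnk z hz hzc y' hy' hzy
    obtain ⟨hzj, N, hN⟩ := down hz
    obtain ⟨hy'j, N', hN'⟩ := down hy'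
    obtain ⟨w, hw, hwz⟩ := hI i n k hin hnk z hzj hzc y' hy'j hzy
    obtain ⟨v, hv, y2, hy2, hvc, hv'⟩ := hS (i - 1) i n (by omega) hin (φ.f i w - y')
      (Submodule.sub_mem _ (map_mem_gam f _ (φ.f i).hom hw) hy'j)
      (by rw [map_sub, ← fd, ← hwz, ← hzy, sub_self])
    have h1 : φ.f i (w - v) = y' + D.d (i - 1) i y2 := by
      rw [map_sub, eq_sub_of_add_eq' hv'.symm]
      abel
    obtain ⟨x, hx, hxw⟩ := hI (i - 1) i n (by omega) hin (g ^ (N + N') • (w - v))
      (Submodule.smul_mem _ _ (Submodule.sub_mem _ hw hv))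
      (by rw [map_smul, map_sub, hvc, sub_zero, ← hwz, pow_add, mul_comm, mul_smul, hN, smul_zero])
      (g ^ (N + N') • y2) (Submodule.smul_mem _ _ hy2)
      (by rw [map_smul, h1, smul_add, pow_add, mul_smul, hN', smul_zero, zero_add, map_smul])
    obtain ⟨c, t, ht, hct⟩ := hC (i - 1) j hj x hx (N + N')
    refine ⟨w - v - C.d (i - 1) i t, (mem_gam_succ f _ hj).2 ⟨Submodule.sub_mem _ (Submodule.sub_mem _ hw hv)
      (map_mem_gam f _ (C.d (i - 1) i).hom ht), c + (N + N'), ?_⟩, ?_⟩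
    · rw [smul_sub, ← map_smul (C.d (i - 1) i).hom, hct, map_smul, ← hxw, ← mul_smul, ← pow_add, sub_self]
    · rw [map_sub, map_sub, hvc, dd, sub_zero, sub_zero, hwz]

/-- A map inducing an isomorphism on cohomology does so on the subcomplexes of elements killed by powers. -/
theorem surj_inj (hC : ∀ n, Div f (C.X n)) (hD : ∀ n, Div f (D.X n)) (h0 : Surj f φ 0 ∧ Inj f φ 0) :
    ∀ {j : ℕ}, j ≤ r → Surj f φ j ∧ Inj f φ j
  | 0, _ => h0
  | j + 1, hj => succ_step hj hC hD (surj_inj hC hD h0 (Nat.le_of_succ_le hj)).1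
      (surj_inj hC hD h0 (Nat.le_of_succ_le hj)).2

end Complex

end Groth.L28.RGamma.Gam
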