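import Groth.Agent.L28.RGamma.Pull
import Groth.Agent.L28.RGamma.Derived
import Groth.Agent.L28.RGamma.ExactUnit
import Groth.Agent.L28.FTors.KapDerived
import Groth.Agent.L28.FTors.KapEquiv

/-!
# Derived torsion functors of a scheme and of its completion
-/

set_option autoImplicit false
set_option linter.style.haveILetI false
set_option linter.unusedSectionVars false
set_option backward.isDefEq.respectTransparency false
set_option backward.isDefEq.respectTransparency.types false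

universe u

open CategoryTheory CategoryTheory.Limits AlgebraicGeometry TopologicalSpace Opposite

attribute [local instance] HasDerivedCategory.standard

set_option synthInstance.maxHeartbeats 400000
set_option maxHeartbeats 800000

noncomputable section

namespace Groth.L28.RGamma

section Gen

universe v v' w w'

variable {C : Type w} [Category.{v} C] {D : Type w'} [Category.{v'} D]

theorem exists_iso_transport (G : C ⥤ D) {T : C ⥤ C} (ε : T ⟶ 𝟭 C) {T' : D ⥤ D} (ε' : T' ⟶ 𝟭 D) {A F : C}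
    (i : A ≅ F) (h : ∃ e : G.obj (T.obj A) ≅ T'.obj (G.obj A), e.hom ≫ ε'.app (G.obj A) = G.map (ε.app A)) :
    ∃ e : G.obj (T.obj F) ≅ T'.obj (G.obj F), e.hom ≫ ε'.app (G.obj F) = G.map (ε.app F) := by
  obtain ⟨e, he⟩ := h
  refine ⟨G.mapIso (T.mapIso i.symm) ≪≫ e ≪≫ T'.mapIso (G.mapIso i), ?_⟩
  simp only [Iso.trans_hom, Functor.mapIso_hom, Iso.symm_hom, Category.assoc]
  rw [show T'.map (G.map i.hom) ≫ ε'.app (G.obj F) = ε'.app (G.obj A) ≫ G.map i.hom from ε'.naturality (G.map i.hom),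
    ← Category.assoc e.hom, he, ← Functor.map_comp, ← Functor.map_comp,
    show ε.app A ≫ i.hom = T.map i.hom ≫ ε.app F from (ε.naturality i.hom).symm, ← Category.assoc, ← Functor.map_comp,
    i.inv_hom_id, CategoryTheory.Functor.map_id, Category.id_comp]

/-- An iso to the torsion part compatible with the counits, from a chain of isomorphisms. -/
theorem exists_iso_chain {T' : D ⥤ D} (ε' : T' ⟶ 𝟭 D) {P P₁ P₂ P₃ Q Q₁ : D} (g : P ⟶ Q) (g₁ : P₁ ⟶ Q₁)
    (s : P ≅ P₁) (b : Q ≅ Q₁) (hg : s.hom ≫ g₁ = g ≫ b.hom)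
    (a₁ : P₂ ⟶ P₁) [IsIso a₁] (a₂ : P₂ ⟶ P₃) [IsIso a₂] {S : D} (a₃ : P₃ ⟶ T'.obj S) [IsIso a₃]
    (j : Q₁ ⟶ S) [IsIso j] (c : P₃ ⟶ S) (hc : a₃ ≫ ε'.app S = c) (hsq : a₂ ≫ c = a₁ ≫ g₁ ≫ j) :
    ∃ e : P ≅ T'.obj Q, e.hom ≫ ε'.app Q = g := by
  refine ⟨s ≪≫ (asIso a₁).symm ≪≫ asIso a₂ ≪≫ asIso a₃ ≪≫ T'.mapIso (b ≪≫ asIso j).symm, ?_⟩
  simp only [Iso.trans_hom, Iso.symm_hom, asIso_hom, asIso_inv, Functor.mapIso_hom, Category.assoc]
  rw [show T'.map (b ≪≫ asIso j).inv ≫ ε'.app Q = ε'.app S ≫ (b ≪≫ asIso j).inv from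
      ε'.naturality (b ≪≫ asIso j).inv,
    reassoc_of% hc, reassoc_of% hsq, IsIso.inv_hom_id_assoc, Iso.trans_inv, asIso_inv, IsIso.hom_inv_id_assoc,
    ← Category.assoc, hg, Category.assoc, Iso.hom_inv_id, Category.comp_id]

theorem existsUnique_of_injective {P Q R : C} (ε : Q ⟶ R) (g : P ⟶ R)
    (hinj : Function.Injective fun φ : P ⟶ Q => φ ≫ ε) (h : ∃ e : P ≅ Q, e.hom ≫ ε = g) :
    ∃! e : P ≅ Q, e.hom ≫ ε = g := by
  obtain ⟨e, he⟩ := h
  exact ⟨e, he, fun e' he' => Iso.ext (hinj (he'.trans he.symm))⟩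

/-- Two coreflections of an object are uniquely isomorphic. -/
theorem existsUnique_of_coreflect (P : C → Prop) {X₁ X₂ B : C} (q₁ : X₁ ⟶ B) (q₂ : X₂ ⟶ B) (h₁ : P X₁) (h₂ : P X₂)
    (b₁ : ∀ A, P A → Function.Bijective fun φ : A ⟶ X₁ => φ ≫ q₁)
    (b₂ : ∀ A, P A → Function.Bijective fun φ : A ⟶ X₂ => φ ≫ q₂) : ∃! e : X₁ ≅ X₂, e.hom ≫ q₂ = q₁ := by
  obtain ⟨φ, hφ⟩ := (b₂ X₁ h₁).2 q₁
  obtain ⟨ψ, hψ⟩ := (b₁ X₂ h₂).2 q₂
  replace hφ : φ ≫ q₂ = q₁ := hφ
  replace hψ : ψ ≫ q₁ = q₂ := hψ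
  refine existsUnique_of_injective q₂ q₁ (b₂ X₁ h₁).1 ⟨⟨φ, ψ, ?_, ?_⟩, hφ⟩
  · exact (b₁ X₁ h₁).1 (by simp [hψ, hφ])
  · exact (b₂ X₂ h₂).1 (by simp [hψ, hφ])

/-- A morphism-level bijection transported along coreflections. -/
theorem bijective_map_of_coreflect (G : C ⥤ D) {T : C ⥤ C} (ε : T ⟶ 𝟭 C) {T' : D ⥤ D} (ε' : T' ⟶ 𝟭 D) {E F : C}
    (h : Function.Bijective fun φ : E ⟶ T.obj F => φ ≫ ε.app F)
    (h' : Function.Bijective fun φ : G.obj E ⟶ T'.obj (G.obj F) => φ ≫ ε'.app (G.obj F))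
    (e : G.obj (T.obj F) ≅ T'.obj (G.obj F)) (he : e.hom ≫ ε'.app (G.obj F) = G.map (ε.app F))
    (hG : Function.Bijective fun φ : E ⟶ T.obj F => G.map φ) : Function.Bijective fun φ : E ⟶ F => G.map φ := by
  have hcomp : (fun φ : E ⟶ F => G.map φ) ∘ (fun φ : E ⟶ T.obj F => φ ≫ ε.app F) =
      (fun φ : G.obj E ⟶ T'.obj (G.obj F) => φ ≫ ε'.app (G.obj F)) ∘ (fun φ => φ ≫ e.hom) ∘
        fun φ : E ⟶ T.obj F => G.map φ := by
    funext φ
    simp only [Function.comp_apply, Functor.map_comp, Category.assoc, he]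
  refine (Function.Bijective.of_comp_iff _ h).1 ?_
  rw [hcomp]
  exact h'.comp (e.homToEquiv.bijective.comp hG)

theorem bijective_comp_of_adj {L : C ⥤ D} {R : D ⥤ C} (adj : L ⊣ R) {A : C} {Q Y : D} (ε : Q ⟶ Y)
    (h : Function.Bijective fun φ : L.obj A ⟶ Q => φ ≫ ε) :
    Function.Bijective fun φ : A ⟶ R.obj Q => φ ≫ R.map ε := by
  have hcomp : (fun φ : A ⟶ R.obj Q => φ ≫ R.map ε) =
      (adj.homEquiv A Y) ∘ (fun φ : L.obj A ⟶ Q => φ ≫ ε) ∘ (adj.homEquiv A Q).symm := by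
    funext φ
    simp only [Function.comp_apply]
    rw [adj.homEquiv_naturality_right, Equiv.apply_symm_apply]
  rw [hcomp]
  exact (adj.homEquiv A Y).bijective.comp (h.comp (adj.homEquiv A Q).symm.bijective)

end Gen

section Qq

variable {Z : TopCat.{u}} {O : Sheaf (Opens.grothendieckTopology Z) CommRingCat.{u}} {Z' : TopCat.{u}}
  {O' : Sheaf (Opens.grothendieckTopology Z') CommRingCat.{u}} (G : ModSite.Mod O ⥤ ModSite.Mod O') [G.Additive]
  [PreservesFiniteLimits G] [PreservesFiniteColimits G]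

/-- An exact functor on the derived category is computed termwise. -/
def qqMapIso : qq O ⋙ G.mapDerivedCategory ≅ G.mapHomologicalComplex (ComplexShape.up ℤ) ⋙ qq O' :=
  Functor.isoWhiskerRight (DerivedCategory.quotientCompQhIso (ModSite.Mod O)) G.mapDerivedCategory ≪≫
    G.mapDerivedCategoryFactors ≪≫
    Functor.isoWhiskerLeft _ (DerivedCategory.quotientCompQhIso (ModSite.Mod O')).symm

end Qq

open Groth.L28.QCT Groth.L09.IndCoh Groth.L17.FSheaf

variable {X : Scheme.{u}} [IsLocallyNoetherian X] {𝔛 : FSch.Sys.{u}} (hX : 𝔛.IsLocNoethFormal)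
  (p : ∀ k, 𝔛.X k ⟶ X) (hp : ∀ k, 𝔛.ι k ≫ p (k + 1) = p k) [IsClosedImmersion (p 0)]
  {𝓘 : X.IdealSheafData} (hcut : CutBy 𝔛 p 𝓘)

include hcut in
theorem existsUnique_pull [PreservesFiniteLimits (κ hX p hp).pull] [_root_.FTors.HasRgammaT 𝔛 hX.1]
    [_root_.FTors.HasRgammaZp X 𝓘] (F : DerivedCategory (ModSite.Mod X.sheaf)) :
    ∃! e : (SiteCmp.pullD (κ hX p hp)).obj ((_root_.FTors.RgammaZp X 𝓘).obj F) ≅
        (_root_.FTors.RgammaT 𝔛 hX.1).obj ((SiteCmp.pullD (κ hX p hp)).obj F),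
      e.hom ≫ (_root_.FTors.RgammaTε 𝔛 hX.1).app ((SiteCmp.pullD (κ hX p hp)).obj F) =
        (SiteCmp.pullD (κ hX p hp)).map ((_root_.FTors.RgammaZpε X 𝓘).app F) := by
  haveI := preservesFiniteColimits_pull hX p hp
  refine existsUnique_of_injective _ _ (bijective_comp_ε (I := _root_.FTors.openIdealFam 𝔛 hX.1) (hasCharts hX) _ _
    (pullD_props hX p hp hcut _ (isTors_HMod_rgamma (_root_.FTors.powIdealFam X 𝓘) F)).1).1 ?_
  obtain ⟨R, hR, hinj, ⟨i⟩⟩ := exists_rep F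
  refine exists_iso_transport (SiteCmp.pullD (κ hX p hp)) (_root_.FTors.RgammaZpε X 𝓘) (_root_.FTors.RgammaTε 𝔛 hX.1) i ?_
  haveI : IsGrothendieckAbelian.{u} (FSch.ModF 𝔛 hX.1) := Groth.L10.shMod_isGrothendieckAbelian _
  let L := (κ hX p hp).pull.mapHomologicalComplex (ComplexShape.up ℤ)
  let I := _root_.FTors.powIdealFam X 𝓘
  let I' := _root_.FTors.openIdealFam 𝔛 hX.1
  let R' := Groth.L10.KInjRes.res (L.obj R)
  let ι := Groth.L10.KInjRes.resι (L.obj R)
  haveI := isIso_toR_of_isKInjective I R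
  haveI := isIso_toR_of_isKInjective I' R'
  haveI h₁ : IsIso (gCι I' (L.obj (gC I R))) := by
    haveI : ∀ n, IsIso ((gCι I' (L.obj (gC I R))).f n) := fun n =>
      isIso_γI (isTorsF_pull hX p hp hcut (isTors_gamma (R.X n)))
    exact HomologicalComplex.Hom.isIso_of_components _
  let G' := (_root_.FTors.gamma (𝔛.Osh hX.1) I').mapHomologicalComplex (ComplexShape.up ℤ)
  haveI h₂ : IsIso (G'.map (L.map (gCι I R))) := by
    haveI : ∀ n, IsIso ((G'.map (L.map (gCι I R))).f n) := fun n => isIso_gamma_pull hX p hp hcut (R.X n)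
    exact HomologicalComplex.Hom.isIso_of_components _
  haveI h₃ : QuasiIso (G'.map ι) :=
    quasiIso_gC_map ι (divCharts_pull hX p hp hcut R hinj R' (fun n => inferInstance) (L.obj R) fun n => rfl)
  haveI : IsIso ((qq _).map (G'.map ι)) := isIso_qq_map _
  haveI : IsIso ((qq _).map (G'.map (L.map (gCι I R) ≫ ι))) := by
    rw [Functor.map_comp, Functor.map_comp]; infer_instance
  haveI : IsIso ((qq _).map ι) := isIso_qq_map _
  let N := qqMapIso (κ hX p hp).pull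
  refine exists_iso_chain (_root_.FTors.RgammaTε 𝔛 hX.1) _ ((qq _).map (L.map (gCι I R)))
    ((SiteCmp.pullD (κ hX p hp)).mapIso (asIso (toR I R)).symm ≪≫ N.app (gC I R)) (N.app R) ?_
    ((qq _).map (gCι I' (L.obj (gC I R)))) ((qq _).map (G'.map (L.map (gCι I R) ≫ ι))) (toR I' R') ((qq _).map ι)
    ((qq _).map (gCι I' R')) (toR_ε I' R') ?_
  · show ((SiteCmp.pullD (κ hX p hp)).map (inv (toR I R)) ≫ N.hom.app (gC I R)) ≫ _ = _
    rw [Category.assoc, ← show (SiteCmp.pullD (κ hX p hp)).map ((qq _).map (gCι I R)) ≫ N.hom.app R =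
      N.hom.app (gC I R) ≫ (qq _).map (L.map (gCι I R)) from N.hom.naturality (gCι I R), ← Category.assoc,
      ← Functor.map_comp, ← toR_ε I R, IsIso.inv_hom_id_assoc]
    rfl
  · rw [← Functor.map_comp, ← Functor.map_comp, ← Functor.map_comp]
    refine congrArg (qq _).map ?_
    ext n : 1
    exact (_root_.FTors.gammaι I').naturality ((L.map (gCι I R) ≫ ι).f n)

include hcut in
theorem existsUnique_push [SiteCmp.HasRpushD (κ hX p hp)] [_root_.FTors.HasRgammaT 𝔛 hX.1]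
    [_root_.FTors.HasRgammaZp X 𝓘] (E : DerivedCategory (FSch.ModF 𝔛 hX.1)) :
    ∃! e : (_root_.FTors.RgammaZp X 𝓘).obj ((SiteCmp.RpushD (κ hX p hp)).obj E) ≅
        (SiteCmp.RpushD (κ hX p hp)).obj ((_root_.FTors.RgammaT 𝔛 hX.1).obj E),
      e.hom ≫ (SiteCmp.RpushD (κ hX p hp)).map ((_root_.FTors.RgammaTε 𝔛 hX.1).app E) =
        (_root_.FTors.RgammaZpε X 𝓘).app ((SiteCmp.RpushD (κ hX p hp)).obj E) := by
  haveI : PreservesFiniteLimits (κ hX p hp).pull := isFlat_kap 𝔛 hX.1 p hp hcut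
  haveI := preservesFiniteColimits_pull hX p hp
  haveI : IsGrothendieckAbelian.{u} (FSch.ModF 𝔛 hX.1) := Groth.L10.shMod_isGrothendieckAbelian _
  let adj' : SiteCmp.pullD (κ hX p hp) ⊣ SiteCmp.RpushD (κ hX p hp) :=
    Groth.L10.DerivedAdj.derived (κ hX p hp).adj _
      ((SiteCmp.pushKh (κ hX p hp)).totalRightDerivedUnit DerivedCategory.Qh
        (HomotopyCategory.quasiIso (FSch.ModF 𝔛 hX.1) (ComplexShape.up ℤ)))
  refine existsUnique_of_coreflect (_root_.FTors.IsDTorsZp X 𝓘) _ _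
    (isTors_HMod_rgamma (_root_.FTors.powIdealFam X 𝓘) _)
    ((RpushD_props hX p hp hcut _).1 (isTors_HMod_rgamma (_root_.FTors.openIdealFam 𝔛 hX.1) E))
    (fun A hA => bijective_comp_ε (I := _root_.FTors.powIdealFam X 𝓘) (hasCharts_scheme X 𝓘) A _ hA)
    fun A hA => bijective_comp_of_adj adj' _
      (bijective_comp_ε (I := _root_.FTors.openIdealFam 𝔛 hX.1) (hasCharts hX) _ E (pullD_props hX p hp hcut A hA).1)

include hcut in
theorem bijective_pullD_of_target [PreservesFiniteLimits (κ hX p hp).pull]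
    (E F : DerivedCategory (ModSite.Mod X.sheaf)) (hF : _root_.FTors.IsDTorsZp X 𝓘 F) :
    Function.Bijective fun φ : E ⟶ F => (SiteCmp.pullD (κ hX p hp)).map φ := by
  haveI := preservesFiniteColimits_pull hX p hp
  haveI := preservesFiniteLimits_push hX p hp
  haveI := preservesFiniteColimits_push hX p hp
  haveI : IsGrothendieckAbelian.{u} (FSch.ModF 𝔛 hX.1) := Groth.L10.shMod_isGrothendieckAbelian _
  exact Groth.L28.ExactAdj.bijective_map_left (κ hX p hp).adj E F fun i => isIso_unit_tors hX p hp hcut (hF i)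

include hcut in
theorem bijective_pullD [PreservesFiniteLimits (κ hX p hp).pull] [_root_.FTors.HasRgammaT 𝔛 hX.1]
    [_root_.FTors.HasRgammaZp X 𝓘] (E F : DerivedCategory (ModSite.Mod X.sheaf))
    (hEF : _root_.FTors.IsDTorsZp X 𝓘 E ∨ _root_.FTors.IsDTorsZp X 𝓘 F) :
    Function.Bijective fun φ : E ⟶ F => (SiteCmp.pullD (κ hX p hp)).map φ := by
  rcases hEF with hE | hF
  · obtain ⟨e, he, -⟩ := existsUnique_pull hX p hp hcut F
    exact bijective_map_of_coreflect (SiteCmp.pullD (κ hX p hp)) (_root_.FTors.RgammaZpε X 𝓘)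
      (_root_.FTors.RgammaTε 𝔛 hX.1)
      (bijective_comp_ε (I := _root_.FTors.powIdealFam X 𝓘) (hasCharts_scheme X 𝓘) E F hE)
      (bijective_comp_ε (I := _root_.FTors.openIdealFam 𝔛 hX.1) (hasCharts hX) _ _ (pullD_props hX p hp hcut E hE).1)
      e he (bijective_pullD_of_target hX p hp hcut E _ (isTors_HMod_rgamma (_root_.FTors.powIdealFam X 𝓘) F))
  · exact bijective_pullD_of_target hX p hp hcut E F hF

end Groth.L28.RGamma
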