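import Groth.Agent.L28.RGamma.Extend

/-!
# Torsion subcomplexes of complexes of injectives
-/

set_option autoImplicit false
set_option linter.style.haveILetI false
set_option linter.unusedSectionVars false
set_option backward.isDefEq.respectTransparency false
set_option backward.isDefEq.respectTransparency.types false

universe u

open CategoryTheory CategoryTheory.Limits Opposite TopologicalSpace

noncomputable section

namespace Groth.L28.RGamma

variable {Z : TopCat.{u}} {O : Sheaf (Opens.grothendieckTopology Z) CommRingCat.{u}}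
  (I : _root_.FTors.IdealFam O)

/-- An open on which a family of ideals is cofinal with the powers of finitely many functions with stabilising colon
ideals. -/
structure Chart (V : Opens Z) {r : ℕ} (f : Fin r → OS O V) : Prop where
  pow_mem : ∀ n, ∃ N, ∀ i, f i ^ N ∈ I.ideal n V
  gen : ∀ N, ∃ n, ∀ (W : Opens Z) (e : W ≤ V) (a : OS O W), a ∈ I.ideal n W → InLoc (fun i => f i ^ N) e a
  colon : ∀ {m : ℕ} (gens : Fin m → OS O V) (g : OS O V), ∃ c, ColonBound gens g c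

/-- Every point has a chart. -/
def HasCharts : Prop :=
  ∀ x : Z, ∃ (V : Opens Z) (r : ℕ) (f : Fin r → OS O V), x ∈ V ∧ Chart I V f

variable {I} {V : Opens Z} {r : ℕ} (f : Fin r → OS O V) {M : ModSite.Mod O}

/-- The first functions have powers annihilating a section. -/
def Ann (j : ℕ) {W : Opens Z} (e : W ≤ V) (s : SM M W) : Prop :=
  ∃ N, ∀ i : Fin r, i.val < j → rO e (f i) ^ N • s = 0

theorem Ann.rs {j : ℕ} {W W' : Opens Z} {e : W ≤ V} {s : SM M W} (h : Ann f j e s) (e' : W' ≤ W) :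
    Ann f j (e'.trans e) (rM M e' s) := by
  obtain ⟨N, hN⟩ := h
  refine ⟨N, fun i hi => ?_⟩
  rw [← rO_rO e e', ← map_pow, ← rM_smul, hN i hi, rM_zero]

theorem Ann.sub {j : ℕ} {W : Opens Z} {e : W ≤ V} {s t : SM M W} (hs : Ann f j e s) (ht : Ann f j e t) :
    Ann f j e (s - t) := by
  obtain ⟨N, hN⟩ := hs
  obtain ⟨N', hN'⟩ := ht
  refine ⟨N + N', fun i hi => ?_⟩
  rw [smul_sub, pow_add, mul_comm, mul_smul, hN i hi, smul_zero, zero_sub, mul_comm, mul_smul, hN' i hi, smul_zero,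
    neg_zero]

theorem Ann.smul {j : ℕ} {W : Opens Z} {e : W ≤ V} {s : SM M W} (a : OS O W) (hs : Ann f j e s) :
    Ann f j e (a • s) := by
  obtain ⟨N, hN⟩ := hs
  exact ⟨N, fun i hi => by rw [smul_comm, hN i hi, smul_zero]⟩

theorem Ann.map {N : ModSite.Mod O} (φ : M ⟶ N) {j : ℕ} {W : Opens Z} {e : W ≤ V} {s : SM M W}
    (hs : Ann f j e s) : Ann f j e (ap φ W s) := by
  obtain ⟨n, hn⟩ := hs
  exact ⟨n, fun i hi => by rw [← map_smul, hn i hi, map_zero]⟩

theorem ann_succ {j : ℕ} (hj : j < r) {W : Opens Z} {e : W ≤ V} {s : SM M W} (hs : Ann f j e s) {q : ℕ}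
    (hq : rO e (f ⟨j, hj⟩) ^ q • s = 0) : Ann f (j + 1) e s := by
  obtain ⟨n, hn⟩ := hs
  refine ⟨n + q, fun i hi => ?_⟩
  rcases Nat.lt_succ_iff_lt_or_eq.1 hi with h | h
  · rw [pow_add, mul_comm, mul_smul, hn i h, smul_zero]
  · rw [show i = ⟨j, hj⟩ from Fin.ext h, pow_add, mul_smul, hq, smul_zero]

variable {f} (hV : Chart I V f)

include hV in
theorem exists_divide_ann [Injective M] {j : ℕ} (hj : j < r) {W : Opens Z} {e : W ≤ V} {s : SM M W}
    (hs : Ann f j e s) (k : ℕ) : ∃ (c : ℕ) (t : SM M W),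
      rO e (f ⟨j, hj⟩) ^ (c + k) • t = rO e (f ⟨j, hj⟩) ^ c • s ∧ Ann f j e t := by
  obtain ⟨N, hN⟩ := hs
  let gens : Fin r → OS O V := fun i => if i.val < j then f i ^ N else 0
  obtain ⟨c, hc⟩ := hV.colon gens (f ⟨j, hj⟩)
  obtain ⟨t, ht, ht'⟩ := exists_divide gens (f ⟨j, hj⟩) e k s hc fun i => by
    by_cases hi : i.val < j
    · rw [show gens i = f i ^ N from if_pos hi, map_pow, hN i hi]
    · rw [show gens i = 0 from if_neg hi, map_zero, zero_smul]
  refine ⟨c, t, ht, N, fun i hi => ?_⟩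
  have := ht' i
  rwa [show gens i = f i ^ N from if_pos hi, map_pow] at this

variable (C : CochainComplex (ModSite.Mod O) ℤ)

/-- The cycles. -/
def Cyc {j : ℤ} {W : Opens Z} (z : SM (C.X j) W) : Prop := ∀ k, ap (C.d j k) W z = 0

theorem Cyc.rs {j : ℤ} {W W' : Opens Z} {z : SM (C.X j) W} (hz : Cyc C z) (e : W' ≤ W) : Cyc C (rM (C.X j) e z) :=
  fun k => by rw [← rM_ap, hz k, rM_zero]

/-- Torsion cycles modulo boundaries. -/
def HomTors : Prop :=
  ∀ (j i : ℤ), i + 1 = j → ∀ ⦃W : Opens Z⦄ (e : W ≤ V) (z : SM (C.X j) W), Cyc C z → ∀ l : Fin r, ∀ x ∈ W,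
    ∃ (W' : Opens Z) (e' : W' ≤ W) (N : ℕ) (y : SM (C.X i) W'), x ∈ W' ∧
      rO (e'.trans e) (f l) ^ N • rM (C.X j) e' z = ap (C.d i j) W' y

theorem cyc_d {i j : ℤ} {W : Opens Z} (y : SM (C.X i) W) : Cyc C (ap (C.d i j) W y) := fun k => by
  rw [← ap_comp, C.d_comp_d, ap_zero]

include hV in
theorem exists_torsion (hC : ∀ n, Injective (C.X n)) (hH : HomTors (f := f) C) (q : ℕ) (hq : q ≤ r) :
    (∀ (j i : ℤ), i + 1 = j → ∀ ⦃W : Opens Z⦄ (e : W ≤ V) (z : SM (C.X j) W), Cyc C z → ∀ x ∈ W,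
      ∃ (W' : Opens Z) (e' : W' ≤ W) (z' : SM (C.X j) W') (y : SM (C.X i) W'), x ∈ W' ∧ Cyc C z' ∧
        Ann f q (e'.trans e) z' ∧ rM (C.X j) e' z = z' + ap (C.d i j) W' y) ∧
    (∀ (j i : ℤ), i + 1 = j → ∀ ⦃W : Opens Z⦄ (e : W ≤ V) (z : SM (C.X j) W) (y : SM (C.X i) W), Ann f q e z →
      z = ap (C.d i j) W y → ∀ x ∈ W, ∃ (W' : Opens Z) (e' : W' ≤ W) (y' : SM (C.X i) W'), x ∈ W' ∧
        Ann f q (e'.trans e) y' ∧ rM (C.X j) e' z = ap (C.d i j) W' y') := by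
  induction q with
  | zero =>
    exact ⟨fun j i _ W e z hz x hx => ⟨W, le_rfl, z, 0, hx, hz, ⟨0, fun i hi => absurd hi (Nat.not_lt_zero _)⟩,
      by rw [rM_self, map_zero, add_zero]⟩,
      fun j i _ W e z y _ hzy x hx => ⟨W, le_rfl, y, hx, ⟨0, fun i hi => absurd hi (Nat.not_lt_zero _)⟩,
      by rw [rM_self, hzy]⟩⟩
  | succ q ih =>
    have hqr : q < r := hq
    obtain ⟨ihS, ihI⟩ := ih hqr.le
    let g := f ⟨q, hqr⟩
    refine ⟨fun j i hij W e z hz x hx => ?_, fun j i hij W e z y hzA hzy x hx => ?_⟩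
    · obtain ⟨W₁, e₁, z₁, y₁, hx₁, hz₁, hA₁, heq⟩ := ihS j i hij e z hz x hx
      obtain ⟨W₂, e₂, p, w, hx₂, hw⟩ := hH j i hij (e₁.trans e) z₁ hz₁ ⟨q, hqr⟩ x hx₁
      obtain ⟨W₃, e₃, w', hx₃, hAw, hw'⟩ := ihI j i hij (e₂.trans (e₁.trans e))
        _ w ((hA₁.rs f e₂).smul f _) hw x hx₂
      haveI := hC i
      obtain ⟨c, t, ht, hAt⟩ := exists_divide_ann hV hqr hAw p
      let E : W₃ ≤ V := e₃.trans (e₂.trans (e₁.trans e))
      refine ⟨W₃, e₃.trans (e₂.trans e₁), rM (C.X j) (e₃.trans e₂) z₁ - ap (C.d i j) W₃ t,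
        rM (C.X i) (e₃.trans e₂) y₁ + t, hx₃, fun k => ?_, ?_, ?_⟩
      · rw [map_sub, hz₁.rs C _ k, cyc_d C t k, sub_zero]
      · refine ann_succ f hqr (((hA₁.rs f (e₃.trans e₂))).sub f (hAt.map f _)) (q := c + p) ?_
        rw [smul_sub, ← map_smul, ht, map_smul, ← hw', rM_smul, map_pow, rO_rO, rM_rM, ← mul_smul, ← pow_add,
          sub_self]
      · have h1 := congrArg (rM (C.X j) (e₃.trans e₂)) heq
        rw [rM_rM, rM_add, rM_ap] at h1
        rw [map_add, sub_add_eq_add_sub, ← add_assoc, add_sub_cancel_right]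
        exact h1
    · obtain ⟨N, hN⟩ := hzA
      obtain ⟨W₁, e₁, y₁, hx₁, hAy, hy₁⟩ := ihI j i hij e z y ⟨N, fun i hi => hN i (by omega)⟩ hzy x hx
      have hgz : rO (e₁.trans e) g ^ N • rM (C.X j) e₁ z = 0 := by
        rw [← rO_rO e e₁, ← map_pow, ← rM_smul, hN ⟨q, hqr⟩ (Nat.lt_succ_self q), rM_zero]
      let u : SM (C.X i) W₁ := rO (e₁.trans e) g ^ N • y₁
      have hu : Cyc C u := fun k => by
        rcases eq_or_ne k j with rfl | hk
        · rw [map_smul, ← hy₁, hgz]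
        · rw [C.shape i k (fun h => hk (by
            have : i + 1 = k := h
            omega)), ap_zero]
      obtain ⟨W₂, e₂, p, w, hx₂, hw⟩ := hH i (i - 1) (by omega) (e₁.trans e) u hu ⟨q, hqr⟩ x hx₁
      obtain ⟨W₃, e₃, w', hx₃, hAw, hw'⟩ := ihI i (i - 1) (by omega) (e₂.trans (e₁.trans e))
        _ w (((hAy.smul f _).rs f e₂).smul f _) hw x hx₂
      haveI := hC (i - 1)
      obtain ⟨c, t, ht, hAt⟩ := exists_divide_ann hV hqr hAw (p + N)
      refine ⟨W₃, e₃.trans (e₂.trans e₁), rM (C.X i) (e₃.trans e₂) y₁ - ap (C.d (i - 1) i) W₃ t, hx₃,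
        ann_succ f hqr ((hAy.rs f (e₃.trans e₂)).sub f (hAt.map f _)) (q := c + (p + N)) ?_, ?_⟩
      · rw [smul_sub, ← map_smul, ht, map_smul, ← hw', rM_smul, map_pow, rO_rO, rM_rM, rM_smul, map_pow, rO_rO,
          ← mul_smul, ← mul_smul, ← pow_add, ← pow_add, sub_eq_zero, add_assoc]
      · rw [map_sub, ← ap_comp (C.d (i - 1) i), C.d_comp_d, ap_zero, sub_zero]
        have h1 := congrArg (rM (C.X j) (e₃.trans e₂)) hy₁
        rw [rM_rM, rM_ap] at h1
        exact h1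

end Groth.L28.RGamma
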