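import Groth.Agent.L28.RGamma.Key
import Groth.Agent.L28.RGamma.Formal
import Groth.Prelude.Def_FTors3
import Mathlib.AlgebraicGeometry.Noetherian
import Mathlib.RingTheory.Localization.Ideal

/-!
# Affine opens of locally Noetherian schemes as charts for the powers of an ideal
-/

set_option autoImplicit false
set_option linter.style.haveILetI false
set_option linter.unusedSectionVars false
set_option backward.isDefEq.respectTransparency false
set_option backward.isDefEq.respectTransparency.types false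

universe u

open CategoryTheory CategoryTheory.Limits AlgebraicGeometry TopologicalSpace Opposite

noncomputable section

namespace Groth.L28.RGamma

variable (X : Scheme.{u}) [IsLocallyNoetherian X] (𝓘 : X.IdealSheafData)

theorem inLoc_scheme {V W : X.Opens} {m : ℕ} {gens : Fin m → Γ(X, V)} {e : W ≤ V} {a : Γ(X, W)}
    (h : ∀ x ∈ W, ∃ (W' : X.Opens) (e' : W' ≤ W), x ∈ W' ∧
      (X.presheaf.map (homOfLE e').op).hom a ∈
        Ideal.span (Set.range fun i => (X.presheaf.map (homOfLE (e'.trans e)).op).hom (gens i))) :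
    InLoc (O := X.sheaf) gens e a := fun x hx => by
  obtain ⟨W', e', hx', hmem⟩ := h x hx
  obtain ⟨c, hc⟩ := (Submodule.mem_span_range_iff_exists_fun _).1 hmem
  exact ⟨W', e', hx', c, hc.symm⟩

theorem exists_colonBound_scheme {U : X.Opens} (hU : IsAffineOpen U) {m : ℕ} (gens : Fin m → Γ(X, U))
    (g : Γ(X, U)) : ∃ c, ColonBound (O := X.sheaf) gens g c := by
  haveI : IsNoetherianRing Γ(X, U) := IsLocallyNoetherian.component_noetherian ⟨U, hU⟩
  obtain ⟨c, hc⟩ := exists_colon_bound (Ideal.span (Set.range gens)) g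
  refine ⟨c, fun W e a₀ k ha => inLoc_scheme X fun x hx => ?_⟩
  obtain ⟨W₁, e₁, hx₁, d₀, hd⟩ := ha x hx
  let a : Γ(X, W) := a₀
  let d : Fin m → Γ(X, W₁) := d₀
  obtain ⟨h, hle, hxh⟩ := hU.exists_basicOpen_le (V := W₁) ⟨x, hx₁⟩ (e hx)
  have eD : X.basicOpen h ≤ U := X.basicOpen_le h
  refine ⟨X.basicOpen h, hle.trans e₁, hxh, ?_⟩
  let r : Γ(X, U) →+* Γ(X, X.basicOpen h) := (X.presheaf.map (homOfLE eD).op).hom
  letI : Algebra Γ(X, U) Γ(X, X.basicOpen h) := r.toAlgebra
  haveI : IsLocalization.Away h Γ(X, X.basicOpen h) := hU.isLocalization_of_eq_basicOpen h _ rfl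
  let a' : Γ(X, X.basicOpen h) := (X.presheaf.map (homOfLE (hle.trans e₁)).op).hom a
  have hrg : ∀ (W' : X.Opens) (e' : W' ≤ U) (e'' : X.basicOpen h ≤ W') (z : Γ(X, U)),
      (X.presheaf.map (homOfLE e'').op).hom ((X.presheaf.map (homOfLE e').op).hom z) = r z :=
    fun W' e' e'' z => rO_rO (O := X.sheaf) e' e'' z
  have hK : r g ^ (c + k) * a' ∈ (Ideal.span (Set.range gens)).map r := by
    have h1 := congrArg (X.presheaf.map (homOfLE hle).op).hom hd
    change (X.presheaf.map (homOfLE hle).op).hom ((X.presheaf.map (homOfLE e₁).op).hom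
      ((X.presheaf.map (homOfLE e).op).hom g ^ (c + k) * a)) =
      (X.presheaf.map (homOfLE hle).op).hom (∑ i, d i * (X.presheaf.map (homOfLE (e₁.trans e)).op).hom (gens i)) at h1
    rw [map_mul, map_mul, map_pow, map_pow, map_sum,
      show (X.presheaf.map (homOfLE e₁).op).hom ((X.presheaf.map (homOfLE e).op).hom g) =
        (X.presheaf.map (homOfLE (e₁.trans e)).op).hom g from rO_rO (O := X.sheaf) e e₁ g,
      hrg W₁ (e₁.trans e) hle g,
      show (X.presheaf.map (homOfLE hle).op).hom ((X.presheaf.map (homOfLE e₁).op).hom a) = a' from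
        rO_rO (O := X.sheaf) e₁ hle a] at h1
    rw [h1]
    refine Submodule.sum_mem _ fun i _ => ?_
    rw [map_mul, hrg W₁ (e₁.trans e) hle (gens i)]
    exact Ideal.mul_mem_left _ _ (Ideal.mem_map_of_mem r (Ideal.subset_span ⟨i, rfl⟩))
  obtain ⟨b, s, hbs⟩ := IsLocalization.exists_mk'_eq (Submonoid.powers h) a'
  have hb : r b = a' * r s := by rw [← hbs]; exact (IsLocalization.mk'_spec _ b s).symm
  have hK' : algebraMap Γ(X, U) Γ(X, X.basicOpen h) (g ^ (c + k) * b) ∈
      (Ideal.span (Set.range gens)).map (algebraMap Γ(X, U) Γ(X, X.basicOpen h)) := by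
    show r (g ^ (c + k) * b) ∈ (Ideal.span (Set.range gens)).map r
    rw [map_mul, map_pow, hb, ← mul_assoc]
    exact Ideal.mul_mem_right _ _ hK
  obtain ⟨s', hs', hmem⟩ := (IsLocalization.algebraMap_mem_map_algebraMap_iff (Submonoid.powers h) _ _ _).1 hK'
  have h2 : g ^ c * (s' * b) ∈ Ideal.span (Set.range gens) := hc k _ (by rwa [mul_left_comm])
  have h3 := Ideal.mem_map_of_mem r h2
  rw [map_mul, map_mul, map_pow, hb] at h3
  have hu : IsUnit (r s' * r (s : Γ(X, U))) :=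
    (IsLocalization.map_units Γ(X, X.basicOpen h) (⟨s', hs'⟩ : Submonoid.powers h)).mul
      (IsLocalization.map_units Γ(X, X.basicOpen h) s)
  have h4 : r g ^ c * a' ∈ (Ideal.span (Set.range gens)).map r := by
    refine (Ideal.unit_mul_mem_iff_mem _ hu).1 ?_
    convert h3 using 1
    ring
  rw [Ideal.map_span, ← Set.range_comp] at h4
  show (X.presheaf.map (homOfLE (hle.trans e₁)).op).hom ((X.presheaf.map (homOfLE e).op).hom g ^ c * a) ∈ _
  rw [map_mul, map_pow, hrg W e (hle.trans e₁) g]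
  exact h4

theorem pow_mem_powIdealFam {W : X.Opens} (hW : IsAffineOpen W) {n : ℕ} {a : Γ(X, W)}
    (ha : a ∈ (𝓘.ideal ⟨W, hW⟩) ^ n) : a ∈ (_root_.FTors.powIdealFam X 𝓘).ideal n W :=
  (_root_.FTors.mem_powIdealFam_iff X 𝓘 n W a).2 fun V hV => by
    have h1 := Ideal.mem_map_of_mem (X.presheaf.map (homOfLE hV).op).hom ha
    rw [Ideal.map_pow] at h1
    exact Ideal.pow_right_mono (Ideal.map_le_iff_le_comap.2 (𝓘.ideal_le_comap_ideal (U := V) (V := ⟨W, hW⟩) hV)) n h1

/-- Generators of the ideal on an affine open form a chart. -/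
theorem chart_scheme {U : X.Opens} (hU : IsAffineOpen U) {r : ℕ} (f : Fin r → Γ(X, U))
    (hf : Ideal.span (Set.range f) = 𝓘.ideal ⟨U, hU⟩) : Chart (_root_.FTors.powIdealFam X 𝓘) U f := by
  haveI : IsNoetherianRing Γ(X, U) := IsLocallyNoetherian.component_noetherian ⟨U, hU⟩
  refine ⟨fun n => ⟨n, fun i => pow_mem_powIdealFam X 𝓘 hU (Ideal.pow_mem_pow (hf ▸ Submodule.subset_span ⟨i, rfl⟩) n)⟩,
    fun N => ?_, fun gens g => exists_colonBound_scheme X hU gens g⟩
  obtain ⟨n, hn⟩ := Ideal.exists_pow_le_of_le_radical_of_fg (I := 𝓘.ideal ⟨U, hU⟩)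
    (J := Ideal.span (Set.range fun i => f i ^ N)) (by
      conv_lhs => rw [← hf]
      refine Submodule.span_le.2 ?_
      rintro _ ⟨i, rfl⟩
      exact ⟨N, Ideal.subset_span ⟨i, rfl⟩⟩) (IsNoetherian.noetherian _)
  refine ⟨n, fun W e a ha => inLoc_scheme X fun x hx => ?_⟩
  obtain ⟨W', hW', hxW', hle⟩ := Opens.isBasis_iff_nbhd.1 X.isBasis_affineOpens hx
  refine ⟨W', hle, hxW', ?_⟩
  have h1 := (_root_.FTors.mem_powIdealFam_iff X 𝓘 n W a).1 ha ⟨W', hW'⟩ hle
  rw [← 𝓘.map_ideal (U := ⟨W', hW'⟩) (V := ⟨U, hU⟩) (hle.trans e), ← Ideal.map_pow] at h1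
  have h2 := Ideal.map_mono hn h1
  rw [Ideal.map_span, ← Set.range_comp] at h2
  exact h2

theorem exists_gens_scheme {U : X.Opens} (hU : IsAffineOpen U) :
    ∃ (r : ℕ) (f : Fin r → Γ(X, U)), Ideal.span (Set.range f) = 𝓘.ideal ⟨U, hU⟩ := by
  haveI : IsNoetherianRing Γ(X, U) := IsLocallyNoetherian.component_noetherian ⟨U, hU⟩
  exact Submodule.fg_iff_exists_fin_generating_family.1 (IsNoetherian.noetherian (𝓘.ideal ⟨U, hU⟩))

theorem hasCharts_scheme : HasCharts (_root_.FTors.powIdealFam X 𝓘) := fun x => by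
  obtain ⟨U, hU, hxU, -⟩ := Opens.isBasis_iff_nbhd.1 X.isBasis_affineOpens (Opens.mem_top x)
  obtain ⟨r, f, hf⟩ := exists_gens_scheme X 𝓘 hU
  exact ⟨U, r, f, hxU, chart_scheme X 𝓘 hU f hf⟩

end Groth.L28.RGamma
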