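import Groth.Agent.L28.RGamma.StalkGam
import Groth.Agent.L28.RGamma.SchCharts
import Groth.Agent.L28.FTors.KapTors
import Groth.Agent.L17.FSheaf.ComplFlat

/-!
# Torsion sections and divisibility under inverse image to a completion
-/

set_option autoImplicit false
set_option linter.style.haveILetI false
set_option linter.unusedSectionVars false
set_option backward.isDefEq.respectTransparency false
set_option backward.isDefEq.respectTransparency.types false

universe u

open CategoryTheory CategoryTheory.Limits AlgebraicGeometry TopologicalSpace Opposite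

set_option synthInstance.maxHeartbeats 400000
set_option maxHeartbeats 600000

noncomputable section

namespace Groth.L28.RGamma

section Extend

variable {A B : Type u} [CommRing A] [CommRing B] (g : A →+* B) (hg : g.Flat) {r : ℕ} {f : Fin r → A}

include hg in
theorem div_extend {M : ModuleCat.{u} A} (h : Gam.Div f M) :
    Gam.Div (fun i => g (f i)) ((ModuleCat.extendScalars g).obj M) := by
  letI := g.toAlgebra
  haveI : Module.Flat A B := hg
  exact Gam.div_baseChange (B := B) h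

include hg in
theorem exists_extend_gam {M K : ModuleCat.{u} A} (α : K ⟶ M) (hα : ∀ s ∈ Gam.gam f M r, ∃ k, α k = s)
    {z : (ModuleCat.extendScalars g).obj M}
    (hz : z ∈ Gam.gam (fun i => g (f i)) ((ModuleCat.extendScalars g).obj M) r) :
    ∃ w, (ModuleCat.extendScalars g).map α w = z := by
  letI := g.toAlgebra
  haveI : Module.Flat A B := hg
  obtain ⟨x, hx⟩ := Gam.exists_lTensor_gam (B := B) le_rfl _ hz
  subst hx
  clear hz
  induction x using TensorProduct.induction_on with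
  | zero => exact ⟨0, (map_zero ((ModuleCat.extendScalars g).map α).hom).trans (map_zero _).symm⟩
  | tmul b m =>
    obtain ⟨k, hk⟩ := hα m m.2
    exact ⟨TensorProduct.tmul A b k, congrArg (fun s => TensorProduct.tmul A b s) hk⟩
  | add x y hx hy =>
    obtain ⟨w, hw⟩ := hx
    obtain ⟨w', hw'⟩ := hy
    exact ⟨w + w', ((map_add ((ModuleCat.extendScalars g).map α).hom w w').trans
      (congrArg₂ (· + ·) hw hw')).trans (map_add _ x y).symm⟩

end Extend

section Kap

open Groth.L28.QCT Groth.L09.IndCoh Groth.L17.FSheaf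

variable {X : Scheme.{u}} [IsLocallyNoetherian X] {𝔛 : FSch.Sys.{u}} (hX : 𝔛.IsLocNoethFormal)
  (p : ∀ k, 𝔛.X k ⟶ X) (hp : ∀ k, 𝔛.ι k ≫ p (k + 1) = p k) [IsClosedImmersion (p 0)]
  {𝓘 : X.IdealSheafData} (hcut : CutBy 𝔛 p 𝓘) (y : 𝔛.X 0)

/-- The map of stalks of functions at a point of the completion. -/
abbrev φy : (StalkMod.oP X.sheaf).stalk ((p 0).base y) →+* (StalkMod.oP (𝔛.Osh hX.1)).stalk y :=
  StalkMod.φ (p 0).base (FSch.schSharp 𝔛 hX.1 p hp) y

include hcut in
theorem flat_φy : (φy hX p hp y).Flat := flat_stalkShp 𝔛 hX.1 p hp hcut y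

variable {U : X.Opens} (hU : IsAffineOpen U) (hyU : y ∈ pU 𝔛 p U) {r : ℕ} (f : Fin r → Γ(X, U))

theorem gf_sp (i : Fin r) : gf (O := 𝔛.Osh hX.1) (fun j => sp hX p hp U (f j)) hyU i =
    φy hX p hp y (gf (O := X.sheaf) f (show (p 0).base y ∈ U from hyU) i) :=
  (StalkMod.germ_φ (p 0).base (FSch.schSharp 𝔛 hX.1 p hp) y U hyU (f i)).symm

include hcut hU in
theorem chart_kap (hf : Ideal.span (Set.range f) = 𝓘.ideal ⟨U, hU⟩) :
    Chart (_root_.FTors.openIdealFam 𝔛 hX.1) (pU 𝔛 p U) fun i => sp hX p hp U (f i) := by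
  refine chart_of_span hX (isAffineOpen_pU 𝔛 p hU) _ (le_antisymm ?_ ?_)
  · refine Ideal.span_le.2 ?_
    rintro _ ⟨i, rfl⟩
    exact RingHom.mem_ker.2 ((pR_sp_eq_zero_iff hX p hp hcut hU 0 (f i)).2
      (by rw [zero_add, pow_one, ← hf]; exact Ideal.subset_span ⟨i, rfl⟩))
  · refine (J_le_map hX p hp hcut hU).trans ?_
    rw [← hf, Ideal.map_span, ← Set.range_comp]
    exact le_rfl

/-- The stalk of an inverse image to the completion. -/
def pullStalkIso : (κ hX p hp).pull ⋙ StalkMod.F (𝔛.Osh hX.1) y ≅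
    StalkMod.F X.sheaf ((p 0).base y) ⋙ ModuleCat.extendScalars (φy hX p hp y) :=
  StalkMod.stalkIso (p 0).base (FSch.schSharp 𝔛 hX.1 p hp) y

include hcut in
theorem div_pull {M : ModSite.Mod X.sheaf}
    (h : Gam.Div (gf (O := X.sheaf) f (show (p 0).base y ∈ U from hyU)) ((StalkMod.F X.sheaf ((p 0).base y)).obj M)) :
    Gam.Div (gf (O := 𝔛.Osh hX.1) (fun j => sp hX p hp U (f j)) hyU)
      ((StalkMod.F (𝔛.Osh hX.1) y).obj ((κ hX p hp).pull.obj M)) := by
  have h1 := div_extend (φy hX p hp y) (flat_φy hX p hp hcut y) h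
  have h2 := Gam.div_of_equiv (((pullStalkIso hX p hp y).app M).toLinearEquiv.symm) h1
  rwa [show gf (O := 𝔛.Osh hX.1) (fun j => sp hX p hp U (f j)) hyU =
    fun i => φy hX p hp y (gf (O := X.sheaf) f (show (p 0).base y ∈ U from hyU) i) from
      funext (gf_sp hX p hp y hyU f)]

include hcut hU in
theorem exists_pull_γ (hf : Ideal.span (Set.range f) = 𝓘.ideal ⟨U, hU⟩) {M : ModSite.Mod X.sheaf}
    {z : (StalkMod.F (𝔛.Osh hX.1) y).obj ((κ hX p hp).pull.obj M)}
    (hz : z ∈ Gam.gam (gf (O := 𝔛.Osh hX.1) (fun j => sp hX p hp U (f j)) hyU)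
      ((StalkMod.F (𝔛.Osh hX.1) y).obj ((κ hX p hp).pull.obj M)) r) :
    ∃ w, (StalkMod.F (𝔛.Osh hX.1) y).map ((κ hX p hp).pull.map (γI (_root_.FTors.powIdealFam X 𝓘) M)) w = z := by
  have hyU' : (p 0).base y ∈ U := hyU
  have h1 := Gam.map_mem_gam _ _ (((pullStalkIso hX p hp y).app M).hom.hom) hz
  rw [show gf (O := 𝔛.Osh hX.1) (fun j => sp hX p hp U (f j)) hyU =
    fun i => φy hX p hp y (gf (O := X.sheaf) f hyU' i) from funext (gf_sp hX p hp y hyU f)] at h1
  obtain ⟨w, hw⟩ := exists_extend_gam (φy hX p hp y) (flat_φy hX p hp hcut y)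
    ((StalkMod.F X.sheaf ((p 0).base y)).map (γI (_root_.FTors.powIdealFam X 𝓘) M))
    (fun s hs => exists_of_mem hyU' (chart_scheme X 𝓘 hU f hf) hs) h1
  refine ⟨((pullStalkIso hX p hp y).app _).inv w, ?_⟩
  have h2 := congrArg (fun k => k w) ((pullStalkIso hX p hp y).inv.naturality (γI (_root_.FTors.powIdealFam X 𝓘) M))
  refine h2.symm.trans ?_
  refine (congrArg (fun q => ((pullStalkIso hX p hp y).inv.app M) q) hw).trans ?_
  exact ((pullStalkIso hX p hp y).app M).toLinearEquiv.symm_apply_apply z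

omit y in
include hcut in
/-- The torsion part of an inverse image is the inverse image of the torsion part. -/
theorem isIso_gamma_pull [PreservesFiniteLimits (κ hX p hp).pull] (M : ModSite.Mod X.sheaf) :
    IsIso ((_root_.FTors.gammaT 𝔛 hX.1).map ((κ hX p hp).pull.map (γI (_root_.FTors.powIdealFam X 𝓘) M))) := by
  let α := (κ hX p hp).pull.map (γI (_root_.FTors.powIdealFam X 𝓘) M)
  haveI hα : Mono α := (κ hX p hp).pull.map_mono _
  let β := (_root_.FTors.gamma (𝔛.Osh hX.1) (_root_.FTors.openIdealFam 𝔛 hX.1)).map α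
  haveI : Mono β := by
    have hnat : β ≫ γI (_root_.FTors.openIdealFam 𝔛 hX.1) _ = γI (_root_.FTors.openIdealFam 𝔛 hX.1) _ ≫ α :=
      (_root_.FTors.gammaι (_root_.FTors.openIdealFam 𝔛 hX.1)).naturality α
    haveI : Mono (β ≫ γI (_root_.FTors.openIdealFam 𝔛 hX.1) _) := by rw [hnat]; exact mono_comp _ _
    exact mono_of_mono β (γI (_root_.FTors.openIdealFam 𝔛 hX.1) _)
  haveI : IsIso (γI (_root_.FTors.openIdealFam 𝔛 hX.1)
      ((κ hX p hp).pull.obj ((_root_.FTors.gamma X.sheaf (_root_.FTors.powIdealFam X 𝓘)).obj M))) :=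
    isIso_γI (isTorsF_pull hX p hp hcut (isTors_gamma M))
  haveI : Epi β := epi_of_local β fun W s y hy => by
    obtain ⟨U, hU, hyU, -⟩ := Opens.isBasis_iff_nbhd.1 X.isBasis_affineOpens (Opens.mem_top ((p 0).base y))
    obtain ⟨r, f, hf⟩ := exists_gens_scheme X 𝓘 hU
    have hV := chart_kap hX p hp hcut hU f hf
    obtain ⟨w, hw⟩ := exists_pull_γ hX p hp hcut y hU hyU f hf (map_γ_mem (show y ∈ pU 𝔛 p U from hyU) hV (sg _ hy s))
    let γ' := γI (_root_.FTors.openIdealFam 𝔛 hX.1)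
      ((κ hX p hp).pull.obj ((_root_.FTors.gamma X.sheaf (_root_.FTors.powIdealFam X 𝓘)).obj M))
    let v := (StalkMod.F (𝔛.Osh hX.1) y).map (inv γ') w
    have hv : (StalkMod.F (𝔛.Osh hX.1) y).map γ' v = w := by
      show ((StalkMod.F (𝔛.Osh hX.1) y).map (inv γ') ≫ (StalkMod.F (𝔛.Osh hX.1) y).map γ') w = w
      rw [← Functor.map_comp, IsIso.inv_hom_id, CategoryTheory.Functor.map_id]
      rfl
    have h1 : (StalkMod.F (𝔛.Osh hX.1) y).map β v = sg _ hy s := by
      refine injective_map (γI (_root_.FTors.openIdealFam 𝔛 hX.1) ((κ hX p hp).pull.obj M)) ?_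
      rw [γ_natural, hv]
      exact hw
    obtain ⟨W', e', hy', t, ht⟩ := exists_sg_le v hy
    rw [← ht, ← sg_ap, ← sg_rM e' hy'] at h1
    obtain ⟨W'', e'', hy'', h2⟩ := exists_eq_of_sg_eq hy' h1
    rw [rM_ap, rM_rM] at h2
    exact ⟨W'', e''.trans e', hy'', rM _ e'' t, h2⟩
  exact isIso_of_mono_of_epi β

omit y in
include hcut in
/-- Divisibility on the charts of the completion for an inverse image and a complex of injectives. -/
theorem divCharts_pull (R : CochainComplex (ModSite.Mod X.sheaf) ℤ) (hR : ∀ n, Injective (R.X n))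
    (R' : CochainComplex (FSch.ModF 𝔛 hX.1) ℤ) (hR' : ∀ n, Injective (R'.X n))
    (C : CochainComplex (FSch.ModF 𝔛 hX.1) ℤ) (hC : ∀ n, C.X n = (κ hX p hp).pull.obj (R.X n)) :
    DivCharts (_root_.FTors.openIdealFam 𝔛 hX.1) C R' := fun y => by
  obtain ⟨U, hU, hyU, -⟩ := Opens.isBasis_iff_nbhd.1 X.isBasis_affineOpens (Opens.mem_top ((p 0).base y))
  obtain ⟨r, f, hf⟩ := exists_gens_scheme X 𝓘 hU
  have hV := chart_kap hX p hp hcut hU f hf
  refine ⟨pU 𝔛 p U, r, _, hyU, hV, fun n => ?_, fun n => ?_⟩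
  · haveI := hR n
    rw [hC n]
    exact div_pull hX p hp hcut y hyU f (div_stalk (show (p 0).base y ∈ U from hyU) (chart_scheme X 𝓘 hU f hf))
  · haveI := hR' n
    exact div_stalk (show y ∈ pU 𝔛 p U from hyU) hV

end Kap

end Groth.L28.RGamma
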