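import Groth.Agent.L28.RGamma.Key

/-!
# The torsion subcomplex of a complex of injectives with torsion cohomology
-/

set_option autoImplicit false
set_option linter.style.haveILetI false
set_option linter.unusedSectionVars false
set_option backward.isDefEq.respectTransparency false
set_option backward.isDefEq.respectTransparency.types false

universe u

open CategoryTheory CategoryTheory.Limits Opposite TopologicalSpace

set_option synthInstance.maxHeartbeats 200000

noncomputable section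

namespace Groth.L28.RGamma

variable {Z : TopCat.{u}} {O : Sheaf (Opens.grothendieckTopology Z) CommRingCat.{u}}
  {I : _root_.FTors.IdealFam O}

theorem killed_of_mono {M N : ModSite.Mod O} (φ : M ⟶ N) [Mono φ] {n : ℕ} {U : Opens Z} {s : SM M U}
    (h : _root_.FTors.KilledBy I N n (ap φ U s)) : _root_.FTors.KilledBy I M n s := fun W g a ha => by
  refine ap_injective φ W ?_
  rw [map_zero, map_smul, show ap φ W (_root_.FTors.res M g s) = _root_.FTors.res N g (ap φ U s) from
    (_root_.FTors.res_hom M φ g s).symm]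
  exact h g a ha

theorem tors_of_mono {M N : ModSite.Mod O} (φ : M ⟶ N) [Mono φ] {U : Opens Z} {s : SM M U}
    (h : _root_.FTors.IsTorsSect I N (ap φ U s)) : _root_.FTors.IsTorsSect I M s := by
  obtain ⟨S, hS, hS'⟩ := (_root_.FTors.IsTorsSect.iff_exists _).1 h
  refine (_root_.FTors.IsTorsSect.iff_exists _).2 ⟨S, hS, fun W g hg => ?_⟩
  obtain ⟨n, hn⟩ := hS' g hg
  refine ⟨n, killed_of_mono φ ?_⟩
  rwa [show ap φ W (_root_.FTors.res M g s) = _root_.FTors.res N g (ap φ U s) from
    (_root_.FTors.res_hom M φ g s).symm]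

theorem isTors_of_mono {M N : ModSite.Mod O} (φ : M ⟶ N) [Mono φ] (h : _root_.FTors.IsTors I N) :
    _root_.FTors.IsTors I M := fun U s => tors_of_mono φ (h U (ap φ U s))

theorem isTors_of_epi {M N : ModSite.Mod O} (φ : M ⟶ N) [Epi φ] (h : _root_.FTors.IsTors I M) :
    _root_.FTors.IsTors I N := fun U s x hx => by
  obtain ⟨V, e, hxV, a, ha⟩ := exists_lift φ s hx
  obtain ⟨W, g, ⟨n, hn⟩, hxW⟩ := h V a x hxV
  refine ⟨W, g ≫ homOfLE e, ⟨n, ?_⟩, hxW⟩
  have h1 := hn.hom φ
  rw [← _root_.FTors.res_hom, show (φ.val.app (op V)) a = rM N e s from ha, ← _root_.FTors.res_comp] at h1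
  exact h1

theorem isTors_of_iso {M N : ModSite.Mod O} (e : M ≅ N) (h : _root_.FTors.IsTors I N) : _root_.FTors.IsTors I M :=
  isTors_of_mono e.hom h

/-- The inclusion of the torsion sections. -/
abbrev γI (I : _root_.FTors.IdealFam O) (M : ModSite.Mod O) : (_root_.FTors.gamma O I).obj M ⟶ M :=
  (_root_.FTors.gammaι I).app M

instance mono_γI (M : ModSite.Mod O) : Mono (γI I M) :=
  ⟨fun {W} a b hab => SheafOfModules.hom_ext (PresheafOfModules.hom_ext fun X =>
    ModuleCat.hom_ext (LinearMap.ext fun z => Subtype.ext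
      (LinearMap.congr_fun (congrArg (fun φ : W ⟶ M => (φ.val.app X).hom) hab) z)))⟩

theorem isTors_gamma (M : ModSite.Mod O) : _root_.FTors.IsTors I ((_root_.FTors.gamma O I).obj M) :=
  fun _ s => tors_of_mono (γI I M) s.2

theorem exists_gamma {M : ModSite.Mod O} {U : Opens Z} {s : SM M U} (h : _root_.FTors.IsTorsSect I M s) :
    ∃ t, ap (γI I M) U t = s := ⟨⟨s, h⟩, rfl⟩

theorem isIso_γI {M : ModSite.Mod O} (h : _root_.FTors.IsTors I M) : IsIso (γI I M) := by
  haveI : Epi (γI I M) := epi_of_local _ fun U y x hx =>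
    ⟨U, le_rfl, hx, by rw [rM_self]; exact exists_gamma (h U y)⟩
  exact isIso_of_mono_of_epi _

variable {V : Opens Z} {r : ℕ} {f : Fin r → OS O V} (hV : Chart I V f) {M : ModSite.Mod O}

include hV in
theorem ann_of_killed {n : ℕ} {W : Opens Z} (e : W ≤ V) {s : SM M W} (h : _root_.FTors.KilledBy I M n s) :
    Ann f r e s := by
  obtain ⟨N, hN⟩ := hV.pow_mem n
  refine ⟨N, fun i _ => ?_⟩
  have h1 := h (𝟙 W) _ (I.map_mem n (homOfLE e) (hN i))
  rw [_root_.FTors.res_id] at h1
  rw [← map_pow]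
  exact h1

include hV in
theorem tors_of_ann {W : Opens Z} {e : W ≤ V} {s : SM M W} (h : Ann f r e s) :
    _root_.FTors.IsTorsSect I M s := by
  obtain ⟨N, hN⟩ := h
  obtain ⟨n, hn⟩ := hV.gen N
  refine _root_.FTors.IsTorsSect.of_killedBy (n := n) fun U g a ha => ?_
  exact smul_eq_zero_of_inLoc e s (fun i => by rw [map_pow]; exact hN i i.2) (leOfHom g)
    (hn U ((leOfHom g).trans e) a ha)

variable (C : CochainComplex (ModSite.Mod O) ℤ)

theorem exact_cycles (j k : ℤ) (h : j + 1 = k) :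
    (ShortComplex.mk (C.iCycles j) (C.d j k) (C.iCycles_d j k)).Exact :=
  ShortComplex.exact_of_f_is_kernel _ (C.cyclesIsKernel j k ((ComplexShape.up ℤ).next_eq' h))

theorem exact_homology (i j : ℤ) (h : i + 1 = j) :
    (ShortComplex.mk (C.toCycles i j) (C.homologyπ j) (C.toCycles_comp_homologyπ i j)).Exact :=
  ShortComplex.exact_of_g_is_cokernel _ (C.homologyIsCokernel i j ((ComplexShape.up ℤ).prev_eq' h))

/-- Torsion homology. -/
def HasTorsHomology (I : _root_.FTors.IdealFam O) (C : CochainComplex (ModSite.Mod O) ℤ) : Prop :=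
  ∀ j, _root_.FTors.IsTors I (C.homology j)

include hV in
theorem homTors (hH : HasTorsHomology I C) : HomTors (f := f) C := fun j i hij W e z hz l x hx => by
  obtain ⟨W₁, e₁, hx₁, c, hc⟩ := exists_lift_exact (exact_cycles C j (j + 1) rfl) z (hz _) hx
  obtain ⟨W₂, g₂, ⟨n, hn⟩, hx₂⟩ := hH j W₁ (ap (C.homologyπ j) W₁ c) x hx₁
  obtain ⟨N, hN⟩ := hV.pow_mem n
  have e₂ := leOfHom g₂
  let a := rO (e₂.trans (e₁.trans e)) (f l) ^ N
  have h0 : ap (C.homologyπ j) W₂ (a • rM (C.cycles j) e₂ c) = 0 := by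
    rw [map_smul, ← rM_ap]
    have h1 := hn (𝟙 W₂) a (by
      show rO (e₂.trans (e₁.trans e)) (f l) ^ N ∈ _
      rw [← map_pow]
      exact I.map_mem n (homOfLE (e₂.trans (e₁.trans e))) (hN l))
    rwa [_root_.FTors.res_id] at h1
  obtain ⟨W₃, e₃, hx₃, y, hy⟩ := exists_lift_exact (exact_homology C i j hij) _ h0 hx₂
  refine ⟨W₃, e₃.trans (e₂.trans e₁), N, y, hx₃, ?_⟩
  have h2 := congrArg (ap (C.iCycles j) W₃) hy
  rw [← ap_comp, C.toCycles_i] at h2
  have hc' : rM (C.X j) (e₃.trans e₂) (rM (C.X j) e₁ z) = ap (C.iCycles j) W₃ (rM (C.cycles j) (e₃.trans e₂) c) := by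
    rw [← hc, rM_ap]
  rw [rM_rM] at hc'
  rw [h2, rM_smul, map_smul, map_pow, rO_rO, rM_rM, hc']

/-- The torsion subcomplex. -/
abbrev gC (I : _root_.FTors.IdealFam O) (C : CochainComplex (ModSite.Mod O) ℤ) : CochainComplex (ModSite.Mod O) ℤ :=
  ((_root_.FTors.gamma O I).mapHomologicalComplex (ComplexShape.up ℤ)).obj C

/-- The inclusion of the torsion subcomplex. -/
def gCι (I : _root_.FTors.IdealFam O) (C : CochainComplex (ModSite.Mod O) ℤ) : gC I C ⟶ C where
  f j := γI I (C.X j)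
  comm' i j _ := ((_root_.FTors.gammaι I).naturality (C.d i j)).symm

theorem hasTorsHomology_gC : HasTorsHomology I (gC I C) := fun j =>
  isTors_of_epi ((gC I C).homologyπ j) (isTors_of_mono ((gC I C).iCycles j) (isTors_gamma _))

theorem cyc_of (j : ℤ) {W : Opens Z} {z : SM (C.X j) W} (hz : ap (C.d j (j + 1)) W z = 0) : Cyc C z := fun k => by
  rcases eq_or_ne k (j + 1) with rfl | hk
  · exact hz
  · rw [C.shape j k (fun h => hk h.symm), ap_zero]

/-- The torsion subcomplex of a complex of injectives with torsion homology is quasi-isomorphic to it. -/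
theorem quasiIso_gCι (hI : HasCharts I) (hC : ∀ n, Injective (C.X n)) (hH : HasTorsHomology I C) :
    QuasiIso (gCι I C) := by
  rw [quasiIso_iff]
  intro j
  rw [quasiIsoAt_iff_isIso_homologyMap]
  have hp := (ComplexShape.up ℤ).prev_eq' (show j - 1 + 1 = j by omega)
  have hn := (ComplexShape.up ℤ).next_eq' (show j + 1 = j + 1 from rfl)
  haveI : Epi (HomologicalComplex.homologyMap (gCι I C) j) := by
    rw [HomologicalComplex.epi_homologyMap_iff_up_to_refinements (gCι I C) (j - 1) j (j + 1) hp hn]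
    intro A y₂ hy₂
    let K := kernel ((gC I C).d j (j + 1))
    let u : K ⊞ C.X (j - 1) ⟶ C.X j :=
      biprod.desc (kernel.ι ((gC I C).d j (j + 1)) ≫ (gCι I C).f j) (C.d (j - 1) j)
    obtain ⟨A', π, hπ, b, hb⟩ := exists_refinement u y₂ fun U s x hx => by
      obtain ⟨V, r, f, hxV, hV⟩ := hI x
      let z := rM (C.X j) (inf_le_left : U ⊓ V ≤ U) (ap y₂ U s)
      have hz : Cyc C z := cyc_of C j (by
        show ap (C.d j (j + 1)) _ (rM _ _ _) = 0
        rw [rM_ap, ← ap_comp, hy₂, ap_zero])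
      obtain ⟨W, e, z', y, hxW, hz', hA, heq⟩ := (exists_torsion hV C hC (homTors hV C hH) r le_rfl).1 j (j - 1)
        (by omega) inf_le_right z hz x ⟨hx, hxV⟩
      obtain ⟨t, ht⟩ := exists_gamma (tors_of_ann hV hA)
      have htd : ap ((gC I C).d j (j + 1)) W t = 0 := by
        refine ap_injective (γI I (C.X (j + 1))) W ?_
        rw [map_zero]
        refine (ap_comp ((gC I C).d j (j + 1)) (γI I (C.X (j + 1))) W t).symm.trans ?_
        refine Eq.trans (LinearMap.congr_fun (congrArg (fun φ : _ ⟶ C.X (j + 1) => ap φ W)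
          ((_root_.FTors.gammaι I).naturality (C.d j (j + 1)))) t) ?_
        show ap (C.d j (j + 1)) W (ap (γI I (C.X j)) W t) = 0
        rw [ht, hz']
      obtain ⟨k, hk⟩ := exists_kernel _ t htd
      refine ⟨W, e.trans inf_le_left, hxW, ap biprod.inl W k + ap biprod.inr W y, ?_⟩
      rw [map_add, ← ap_comp, ← ap_comp, biprod.inl_desc, biprod.inr_desc, ap_comp, ← rM_ap]
      refine Eq.trans (congrArg (fun q => ap ((gCι I C).f j) W q + _) hk) ?_
      show ap (γI I (C.X j)) W t + _ = _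
      rw [ht, ← heq, rM_rM]
    refine ⟨A', π, hπ, b ≫ biprod.fst ≫ kernel.ι _, ?_, b ≫ biprod.snd, ?_⟩
    · rw [Category.assoc, Category.assoc]
      exact (congrArg (fun q => b ≫ biprod.fst ≫ q) (kernel.condition ((gC I C).d j (j + 1)))).trans (by simp)
    · refine hb.trans ((congrArg (fun q => b ≫ q) (biprod.desc_eq ..)).trans ?_)
      simp only [Preadditive.comp_add, Category.assoc]
  haveI : Mono (HomologicalComplex.homologyMap (gCι I C) j) := by
    rw [HomologicalComplex.mono_homologyMap_iff_up_to_refinements (gCι I C) (j - 1) j (j + 1) hp hn]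
    intro A x₂ _ y₁ hy₁
    obtain ⟨A', π, hπ, b, hb⟩ := exists_refinement ((gC I C).d (j - 1) j) x₂ fun U s x hx => by
      obtain ⟨V, r, f, hxV, hV⟩ := hI x
      let z₀ := ap (γI I (C.X j)) U (ap x₂ U s)
      obtain ⟨W₁, g₁, ⟨n, hn'⟩, hx₁⟩ := (show _root_.FTors.IsTorsSect I (C.X j) z₀ from (ap x₂ U s).2) x hx
      let W₂ := W₁ ⊓ V
      have e₂ : W₂ ≤ U := inf_le_left.trans (leOfHom g₁)
      have hA : Ann f r (inf_le_right : W₂ ≤ V) (rM (C.X j) e₂ z₀) := by
        refine ann_of_killed hV _ (n := n) ?_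
        have h1 := hn'.res (homOfLE (inf_le_left : W₂ ≤ W₁))
        rw [← _root_.FTors.res_comp] at h1
        exact h1
      have heq : rM (C.X j) e₂ z₀ = ap (C.d (j - 1) j) W₂ (rM (C.X (j - 1)) e₂ (ap y₁ U s)) := by
        rw [← rM_ap, ← ap_comp y₁, ← hy₁]
        rfl
      obtain ⟨W, e, y', hxW, hAy, hy'⟩ := (exists_torsion hV C hC (homTors hV C hH) r le_rfl).2 j (j - 1)
        (by omega) (inf_le_right : W₂ ≤ V) _ _ hA heq x ⟨hx₁, hxV⟩
      obtain ⟨t, ht⟩ := exists_gamma (tors_of_ann hV hAy)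
      refine ⟨W, e.trans e₂, hxW, t, ap_injective (γI I (C.X j)) W ?_⟩
      refine (ap_comp ((gC I C).d (j - 1) j) (γI I (C.X j)) W t).symm.trans ?_
      refine Eq.trans (LinearMap.congr_fun (congrArg (fun φ : _ ⟶ C.X j => ap φ W)
        ((_root_.FTors.gammaι I).naturality (C.d (j - 1) j))) t) ?_
      show ap (C.d (j - 1) j) W (ap (γI I (C.X (j - 1))) W t) = _
      rw [ht, ← hy', rM_rM, ← rM_ap x₂]
      exact rM_ap (γI I (C.X j)) _ _
    exact ⟨A', π, hπ, b, hb⟩
  exact isIso_of_mono_of_epi _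

set_option maxHeartbeats 800000 in
/-- An acyclic complex of injectives has an acyclic torsion subcomplex. -/
theorem isZero_homology_gC (hI : HasCharts I) (hC : ∀ n, Injective (C.X n)) (h0 : ∀ n, IsZero (C.homology n))
    (n : ℤ) : IsZero ((gC I C).homology n) := by
  have hH : HasTorsHomology I C := fun j U s => by
    have h0' : (𝟙 (C.homology j) : C.homology j ⟶ C.homology j) = 0 := (h0 j).eq_of_src _ _
    have h1 : ap (𝟙 (C.homology j)) U s = ap (0 : C.homology j ⟶ C.homology j) U s := by rw [h0']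
    have h2 : s = 0 := h1
    rw [h2]
    exact _root_.FTors.IsTorsSect.zero I _ U
  haveI : IsIso (HomologicalComplex.homologyMap (gCι I C) n) :=
    (quasiIsoAt_iff_isIso_homologyMap _ _).1 ((quasiIso_gCι C hI hC hH).quasiIsoAt n)
  exact (h0 n).of_iso (asIso (HomologicalComplex.homologyMap (gCι I C) n))

end Groth.L28.RGamma
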