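import Groth.Agent.L17.FSheaf.CohCat
import Groth.Agent.L17.FSheaf.LevelIdeal
import Groth.Agent.L10.SecPres.Basic
import Groth.Prelude.Def_FTors2
import Mathlib.Algebra.Category.ModuleCat.Presheaf.Submodule
import Mathlib.Algebra.Homology.Refinements

/-!
# Sections of modules on a ringed space, injective modules and local homology
-/

set_option autoImplicit false
set_option linter.style.haveILetI false
set_option linter.unusedSectionVars false
set_option backward.isDefEq.respectTransparency false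
set_option backward.isDefEq.respectTransparency.types false

universe u

open CategoryTheory CategoryTheory.Limits Opposite TopologicalSpace

noncomputable section

namespace Groth.L28.RGamma

variable {Z : TopCat.{u}} {O : Sheaf (Opens.grothendieckTopology Z) CommRingCat.{u}}

/-- Functions on an open. -/
abbrev OS (O : Sheaf (Opens.grothendieckTopology Z) CommRingCat.{u}) (U : Opens Z) : Type u := O.obj.obj (op U)

/-- Restriction of functions. -/
abbrev rO {U V : Opens Z} (e : V ≤ U) : OS O U →+* OS O V := (O.obj.map (homOfLE e).op).hom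

/-- Sections of a module. -/
abbrev SM (M : ModSite.Mod O) (U : Opens Z) : Type u := ModSite.sect M U

/-- Restriction of sections. -/
abbrev rM (M : ModSite.Mod O) {U V : Opens Z} (e : V ≤ U) (s : SM M U) : SM M V := _root_.FTors.res M (homOfLE e) s

theorem rO_rO {U V W : Opens Z} (e : V ≤ U) (e' : W ≤ V) (a : OS O U) : rO e' (rO e a) = rO (e'.trans e) a :=
  (ConcreteCategory.congr_hom (O.obj.map_comp (homOfLE e).op (homOfLE e').op) a).symm

theorem rO_self {U : Opens Z} (e : U ≤ U) (a : OS O U) : rO e a = a :=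
  ConcreteCategory.congr_hom (O.obj.map_id (op U)) a

variable (M : ModSite.Mod O)

theorem rM_rM {U V W : Opens Z} (e : V ≤ U) (e' : W ≤ V) (s : SM M U) : rM M e' (rM M e s) = rM M (e'.trans e) s :=
  (_root_.FTors.res_comp M (homOfLE e) (homOfLE e') s).symm

theorem rM_self {U : Opens Z} (e : U ≤ U) (s : SM M U) : rM M e s = s := _root_.FTors.res_id M s

theorem rM_smul {U V : Opens Z} (e : V ≤ U) (a : OS O U) (s : SM M U) : rM M e (a • s) = rO e a • rM M e s :=
  _root_.FTors.res_smul M (homOfLE e) a s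

theorem rM_add {U V : Opens Z} (e : V ≤ U) (s t : SM M U) : rM M e (s + t) = rM M e s + rM M e t :=
  _root_.FTors.res_add M (homOfLE e) s t

theorem rM_zero {U V : Opens Z} (e : V ≤ U) : rM M e (0 : SM M U) = 0 := _root_.FTors.res_zero M (homOfLE e)

theorem rM_sub {U V : Opens Z} (e : V ≤ U) (s t : SM M U) : rM M e (s - t) = rM M e s - rM M e t :=
  map_sub (M.val.map (homOfLE e).op).hom s t

theorem sect_ext {U : Opens Z} {s t : SM M U}
    (h : ∀ x ∈ U, ∃ (V : Opens Z) (e : V ≤ U), x ∈ V ∧ rM M e s = rM M e t) : s = t :=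
  Groth.L17.FSheaf.eq_of_locally (R := ModSite.ringSh O) M s t h

variable {M}

/-- The value of a morphism on sections. -/
abbrev ap {N : ModSite.Mod O} (φ : M ⟶ N) (U : Opens Z) : SM M U →ₗ[OS O U] SM N U := (φ.val.app (op U)).hom

theorem rM_ap {N : ModSite.Mod O} (φ : M ⟶ N) {U V : Opens Z} (e : V ≤ U) (s : SM M U) :
    rM N e (ap φ U s) = ap φ V (rM M e s) := _root_.FTors.res_hom M φ (homOfLE e) s

theorem ap_comp {N P : ModSite.Mod O} (φ : M ⟶ N) (ψ : N ⟶ P) (U : Opens Z) (s : SM M U) :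
    ap (φ ≫ ψ) U s = ap ψ U (ap φ U s) := rfl

theorem ap_zero {N : ModSite.Mod O} (U : Opens Z) (s : SM M U) : ap (0 : M ⟶ N) U s = 0 := rfl

theorem exists_kernel {N : ModSite.Mod O} (ψ : M ⟶ N) {U : Opens Z} (s : SM M U) (h : ap ψ U s = 0) :
    ∃ k, ap (kernel.ι ψ) U k = s :=
  (Groth.L17.FSheaf.exists_kernel_sect (R := ModSite.ringSh O) ψ (op U)).1 s h

theorem injective_kernel {N : ModSite.Mod O} (ψ : M ⟶ N) (U : Opens Z) : Function.Injective (ap (kernel.ι ψ) U) :=
  (Groth.L17.FSheaf.exists_kernel_sect (R := ModSite.ringSh O) ψ (op U)).2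

theorem ap_injective {N : ModSite.Mod O} (φ : M ⟶ N) [Mono φ] (U : Opens Z) : Function.Injective (ap φ U) := by
  refine (injective_iff_map_eq_zero _).2 fun s hs => ?_
  obtain ⟨k, rfl⟩ := exists_kernel φ s hs
  rw [show kernel.ι φ = 0 from (cancel_mono φ).1 (by rw [kernel.condition, zero_comp]), ap_zero]

theorem exists_lift {A B : ModSite.Mod O} (p : A ⟶ B) [Epi p] {W : Opens Z} (y : SM B W) {x : Z} (hx : x ∈ W) :
    ∃ (V : Opens Z) (e : V ≤ W), x ∈ V ∧ ∃ a, ap p V a = rM B e y :=
  Groth.L17.FSheaf.exists_lift (R := ModSite.ringSh O) p y x hx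

/-- Locally surjective maps are epimorphisms. -/
theorem epi_of_local {A B : ModSite.Mod O} (p : A ⟶ B)
    (h : ∀ (U : Opens Z) (y : SM B U), ∀ x ∈ U, ∃ (V : Opens Z) (e : V ≤ U), x ∈ V ∧ ∃ a, ap p V a = rM B e y) :
    Epi p := by
  refine Groth.L10.SecPres.epi_of_locally_image p fun U y => ?_
  refine ⟨{ arrows := fun V g => ∃ a, ap p V a = rM B (leOfHom g) y, downward_closed := ?_ }, ?_, fun V k hk => hk⟩
  · rintro V W g ⟨a, ha⟩ k
    refine ⟨rM A (leOfHom k) a, ?_⟩
    rw [← rM_ap, ha, rM_rM]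
  · intro x hx
    obtain ⟨V, e, hxV, ha⟩ := h U y x hx
    exact ⟨V, homOfLE e, ha, hxV⟩

/-- A morphism through which another one locally factors on sections does so after an epimorphism. -/
theorem exists_refinement {A B C : ModSite.Mod O} (u : B ⟶ C) (a : A ⟶ C)
    (h : ∀ (U : Opens Z) (s : SM A U), ∀ x ∈ U, ∃ (V : Opens Z) (e : V ≤ U), x ∈ V ∧
      ∃ b, ap u V b = ap a V (rM A e s)) :
    ∃ (A' : ModSite.Mod O) (π : A' ⟶ A) (_ : Epi π) (b : A' ⟶ B), π ≫ a = b ≫ u := by
  let w : A ⊞ B ⟶ C := biprod.desc a (-u)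
  refine ⟨kernel w, kernel.ι w ≫ biprod.fst, epi_of_local _ fun U s x hx => ?_, kernel.ι w ≫ biprod.snd, ?_⟩
  · obtain ⟨V, e, hxV, b, hb⟩ := h U s x hx
    let z : SM (A ⊞ B) V := ap biprod.inl V (rM A e s) + ap biprod.inr V b
    have hz : ap w V z = 0 := by
      rw [map_add, ← ap_comp, ← ap_comp, biprod.inl_desc, biprod.inr_desc]
      show ap a V (rM A e s) + -(ap u V b) = 0
      rw [hb, add_neg_cancel]
    obtain ⟨k, hk⟩ := exists_kernel w z hz
    refine ⟨V, e, hxV, k, ?_⟩
    rw [ap_comp, hk, map_add, ← ap_comp, ← ap_comp, biprod.inl_fst, biprod.inr_fst, ap_zero, add_zero]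
    rfl
  · have hw : w = biprod.fst ≫ a - biprod.snd ≫ u := by
      apply biprod.hom_ext' <;> simp [w]
    have h1 : kernel.ι w ≫ (biprod.fst ≫ a - biprod.snd ≫ u) = 0 :=
      (congrArg (fun t => kernel.ι w ≫ t) hw).symm.trans (kernel.condition w)
    rw [Preadditive.comp_sub, sub_eq_zero] at h1
    rw [Category.assoc, Category.assoc]
    exact h1

/-- In an exact complex sections with zero image come locally from the left. -/
theorem exists_lift_exact {S : ShortComplex (ModSite.Mod O)} (hS : S.Exact) {W : Opens Z} (y : SM S.X₂ W)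
    (hy : ap S.g W y = 0) {x : Z} (hx : x ∈ W) :
    ∃ (V : Opens Z) (e : V ≤ W), x ∈ V ∧ ∃ a, ap S.f V a = rM S.X₂ e y := by
  obtain ⟨k, hk⟩ := exists_kernel S.g y hy
  haveI := (S.exact_iff_epi_kernel_lift).1 hS
  obtain ⟨V, e, hxV, a, ha⟩ := exists_lift (kernel.lift S.g S.f S.zero) k hx
  refine ⟨V, e, hxV, a, ?_⟩
  rw [← hk, rM_ap, ← ha, ← ap_comp, kernel.lift_ι]

end Groth.L28.RGamma
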