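import Groth.Agent.L28.RGamma.StalkMod
import Groth.Agent.L28.RGamma.Gam
import Groth.Agent.L28.RGamma.Qis
import Groth.Agent.L04.FTorsD.Sect

/-!
# Torsion subcomplexes and quasi-isomorphisms, on stalks
-/

set_option autoImplicit false
set_option linter.style.haveILetI false
set_option linter.unusedSectionVars false
set_option backward.isDefEq.respectTransparency false
set_option backward.isDefEq.respectTransparency.types false

universe u

open CategoryTheory CategoryTheory.Limits Opposite TopologicalSpace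

set_option synthInstance.maxHeartbeats 400000
set_option maxHeartbeats 600000

noncomputable section

namespace Groth.L28.RGamma

open StalkMod

variable {Z : TopCat.{u}} {O : Sheaf (Opens.grothendieckTopology Z) CommRingCat.{u}}
  {I : _root_.FTors.IdealFam O} {V : Opens Z} {r : ℕ} (f : Fin r → OS O V) {x : Z} (hxV : x ∈ V)

/-- The germs of the functions of a chart. -/
abbrev gf : Fin r → (oP O).stalk x := fun i => (oP O).germ V x hxV (f i)

/-- The elements of a stalk killed by powers of the first functions. -/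
abbrev sgam (M : ModSite.Mod O) (j : ℕ) : Submodule ((oP O).stalk x) ((StalkMod.F O x).obj M) :=
  Gam.gam (gf f hxV) ((StalkMod.F O x).obj M) j

variable {M N : ModSite.Mod O}

/-- The germ of a section. -/
abbrev sg (M : ModSite.Mod O) {W : Opens Z} (hx : x ∈ W) (s : SM M W) : (StalkMod.F O x).obj M :=
  StalkMod.germ M x hx s

theorem sg_rM {W W' : Opens Z} (e : W' ≤ W) (hx : x ∈ W') (s : SM M W) :
    sg M hx (rM M e s) = sg M (e hx) s :=
  StalkMod.germ_res M x (homOfLE e) hx s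

theorem sg_ap (φ : M ⟶ N) {W : Opens Z} (hx : x ∈ W) (s : SM M W) :
    sg N hx (ap φ W s) = (StalkMod.F O x).map φ (sg M hx s) :=
  (StalkMod.F_map_germ x φ hx s).symm

theorem exists_eq_of_sg_eq {W : Opens Z} (hx : x ∈ W) {s t : SM M W} (h : sg M hx s = sg M hx t) :
    ∃ (W' : Opens Z) (e : W' ≤ W), x ∈ W' ∧ rM M e s = rM M e t := by
  obtain ⟨W', hxW', i₁, i₂, h'⟩ := TopCat.Presheaf.germ_eq (PresheafOfModules.presheaf (StalkMod.pre M)) x hx hx s t h
  exact ⟨W', leOfHom i₁, hxW', h'⟩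

theorem exists_sg_le (p : (StalkMod.F O x).obj M) {W : Opens Z} (hx : x ∈ W) :
    ∃ (W' : Opens Z) (_ : W' ≤ W) (hx' : x ∈ W') (s : SM M W'), sg M hx' s = p := by
  obtain ⟨U, hU, m, rfl⟩ := StalkMod.exists_germ M x p
  exact ⟨U ⊓ W, inf_le_right, ⟨hU, hx⟩, rM M inf_le_left m, sg_rM inf_le_left _ m⟩

theorem sg_pow_smul {W : Opens Z} (e : W ≤ V) (hx : x ∈ W) (i : Fin r) (N : ℕ) (s : SM M W) :
    sg M hx (rO e (f i) ^ N • s) = gf f (e hx) i ^ N • sg M hx s := by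
  refine (StalkMod.germ_smul M x hx _ s).trans ?_
  refine congrArg (fun a : (oP O).stalk x => a • sg M hx s) ?_
  rw [← map_pow]
  refine (TopCat.Presheaf.germ_res_apply (oP O) (homOfLE e) x hx _).trans ?_
  rw [map_pow]

theorem sg_mem_sgam {W : Opens Z} {e : W ≤ V} (hx : x ∈ W) {j : ℕ} {s : SM M W} (h : Ann f j e s) :
    sg M hx s ∈ sgam f (e hx) M j := by
  obtain ⟨N, hN⟩ := h
  exact ⟨N, fun i hi => by rw [← sg_pow_smul f e hx, hN i hi]; exact map_zero (StalkMod.germ M x hx)⟩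

theorem exists_ann_of_mem {W : Opens Z} (e : W ≤ V) (hx : x ∈ W) {j : ℕ} {s : SM M W}
    (h : sg M hx s ∈ sgam f (e hx) M j) :
    ∃ (W' : Opens Z) (e' : W' ≤ W), x ∈ W' ∧ Ann f j (e'.trans e) (rM M e' s) := by
  obtain ⟨N, hN⟩ := h
  have h1 : ∀ i : Fin r, ∃ (Wi : Opens Z) (ei : Wi ≤ W), x ∈ Wi ∧
      (i.val < j → rO (ei.trans e) (f i) ^ N • rM M ei s = 0) := fun i => by
    by_cases hi : i.val < j
    · obtain ⟨Wi, ei, hxi, hWi⟩ := exists_eq_of_sg_eq hx (s := rO e (f i) ^ N • s) (t := 0)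
        ((sg_pow_smul f e hx i N s).trans ((hN i hi).trans (map_zero (StalkMod.germ M x hx)).symm))
      exact ⟨Wi, ei, hxi, fun _ => by rwa [rM_smul, rM_zero, map_pow, rO_rO] at hWi⟩
    · exact ⟨W, le_rfl, hx, fun h => absurd h hi⟩
  choose Wi ei hxi hWi using h1
  let W' : Opens Z := W ⊓ ⟨⋂ i, (Wi i : Set Z), isOpen_iInter_of_finite fun i => (Wi i).2⟩
  refine ⟨W', inf_le_left, ⟨hx, Set.mem_iInter.2 hxi⟩, N, fun i hi => ?_⟩
  have e'' : W' ≤ Wi i := inf_le_right.trans fun y hy => Set.mem_iInter.1 hy i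
  rw [← rM_rM M (ei i) e'' s, ← rO_rO ((ei i).trans e) e'', ← map_pow, ← rM_smul, hWi i hi, rM_zero]

variable {f} (hV : Chart I V f)

include hV in
theorem div_stalk [Injective M] : Gam.Div (gf f hxV) ((StalkMod.F O x).obj M) := by
  intro j hj p hp k
  obtain ⟨W, e, hxW, s, rfl⟩ := exists_sg_le p hxV
  obtain ⟨W', e', hxW', hA⟩ := exists_ann_of_mem f e hxW hp
  obtain ⟨c, t, ht, hAt⟩ := exists_divide_ann hV hj hA k
  have h1 := sg_mem_sgam f hxW' hAt
  have h2 : sg M hxW' t ∈ sgam f hxV M j := h1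
  refine ⟨c, sg M hxW' t, h2, ?_⟩
  rw [← sg_pow_smul f (e'.trans e) hxW', ht, sg_pow_smul, sg_rM]

theorem injective_map (φ : M ⟶ N) [Mono φ] : Function.Injective ((StalkMod.F O x).map φ) := by
  intro p q h
  obtain ⟨W, -, hxW, s, rfl⟩ := exists_sg_le p (Opens.mem_top x)
  obtain ⟨W', e, hxW', t, rfl⟩ := exists_sg_le q hxW
  rw [← sg_rM e hxW' s, ← sg_ap, ← sg_ap] at h
  obtain ⟨W'', e', hxW'', h'⟩ := exists_eq_of_sg_eq hxW' h
  rw [rM_ap, rM_ap] at h'
  rw [← sg_rM e hxW' s, ← sg_rM e' hxW'', ← sg_rM e' hxW'', ap_injective φ W'' h']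

include hV in
theorem map_γ_mem (q : (StalkMod.F O x).obj ((_root_.FTors.gamma O I).obj M)) :
    (StalkMod.F O x).map (γI I M) q ∈ sgam f hxV M r := by
  obtain ⟨W, e, hxW, s, rfl⟩ := exists_sg_le q hxV
  obtain ⟨W', g, ⟨n, hn⟩, hxW'⟩ := (show _root_.FTors.IsTorsSect I M (ap (γI I M) W s) from s.2) x hxW
  rw [← sg_ap, ← sg_rM (leOfHom g) hxW']
  have h1 := ann_of_killed hV ((leOfHom g).trans e) hn
  have h2 := sg_mem_sgam f hxW' h1
  exact h2

include hV in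
theorem exists_of_mem {p : (StalkMod.F O x).obj M} (hp : p ∈ sgam f hxV M r) :
    ∃ q, (StalkMod.F O x).map (γI I M) q = p := by
  obtain ⟨W, e, hxW, s, rfl⟩ := exists_sg_le p hxV
  obtain ⟨W', e', hxW', hA⟩ := exists_ann_of_mem f e hxW hp
  obtain ⟨t, ht⟩ := exists_gamma (tors_of_ann hV hA)
  exact ⟨sg _ hxW' t, by rw [← sg_ap, ht, sg_rM]⟩

instance additive_F : (StalkMod.F O x).Additive where
  map_add {M N φ ψ} := by
    ext p
    obtain ⟨W, -, hxW, s, rfl⟩ := exists_sg_le p (Opens.mem_top x)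
    show (StalkMod.F O x).map (φ + ψ) (sg M hxW s) =
      (StalkMod.F O x).map φ (sg M hxW s) + (StalkMod.F O x).map ψ (sg M hxW s)
    rw [← sg_ap, ← sg_ap, ← sg_ap]
    exact map_add (StalkMod.germ N x hxW) (ap φ W s) (ap ψ W s)

variable (x) in
/-- The complex of stalks. -/
abbrev SC (C : CochainComplex (ModSite.Mod O) ℤ) : CochainComplex (ModuleCat.{u} ((oP O).stalk x)) ℤ :=
  ((StalkMod.F O x).mapHomologicalComplex (ComplexShape.up ℤ)).obj C

variable (x) in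
/-- The map of stalk complexes. -/
abbrev SCmap {C D : CochainComplex (ModSite.Mod O) ℤ} (φ : C ⟶ D) : SC x C ⟶ SC x D :=
  ((StalkMod.F O x).mapHomologicalComplex (ComplexShape.up ℤ)).map φ

variable {C D : CochainComplex (ModSite.Mod O) ℤ}

theorem surj_zero (φ : C ⟶ D) [QuasiIso φ] : Gam.Surj (gf f hxV) (SCmap x φ) 0 := by
  intro i n k hin hnk p _ hp
  obtain ⟨W, e, hxW, z, rfl⟩ := exists_sg_le (M := D.X n) p hxV
  change (StalkMod.F O x).map (D.d n k) (sg (D.X n) hxW z) = 0 at hp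
  obtain ⟨W₁, e₁, hx₁, hz⟩ := exists_eq_of_sg_eq hxW (s := ap (D.d n k) W z) (t := 0)
    ((sg_ap _ hxW z).trans (hp.trans (map_zero (StalkMod.germ (D.X k) x hxW)).symm))
  rw [rM_zero, rM_ap] at hz
  obtain ⟨W₂, e₂, hx₂, c, hc⟩ := exists_lift_exact (exact_cycles D n k hnk) _ hz hx₁
  have hq : QuasiIsoAt φ n := (‹QuasiIso φ›).quasiIsoAt n
  haveI := (quasiIsoAt_iff_isIso_homologyMap φ n).1 hq
  let h₀ := ap (inv (HomologicalComplex.homologyMap φ n)) W₂ (ap (D.homologyπ n) W₂ c)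
  obtain ⟨W₃, e₃, hx₃, c₀, hc₀⟩ := exists_lift (C.homologyπ n) h₀ hx₂
  have h1 : ap (D.homologyπ n) W₃
      (rM (D.cycles n) e₃ c - ap (HomologicalComplex.cyclesMap φ n) W₃ c₀) = 0 := by
    rw [map_sub, ← rM_ap, ← ap_comp (HomologicalComplex.cyclesMap φ n), ← HomologicalComplex.homologyπ_naturality,
      ap_comp, hc₀, ← rM_ap, ← ap_comp, IsIso.inv_hom_id]
    exact sub_self _
  obtain ⟨W₄, e₄, hx₄, y, hy⟩ := exists_lift_exact (exact_homology D i n hin) _ h1 hx₃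
  replace hy := congrArg (ap (D.iCycles n) W₄) hy
  rw [← ap_comp, D.toCycles_i, ← rM_ap, map_sub, ← rM_ap, hc, ← ap_comp (HomologicalComplex.cyclesMap φ n),
    HomologicalComplex.cyclesMap_i, rM_sub, rM_rM, rM_rM] at hy
  let z₀ : SM (C.X n) W₄ := rM _ e₄ (ap (C.iCycles n) W₃ c₀)
  refine ⟨sg (C.X n) hx₄ z₀, Gam.gam_zero _ _ _, sg (D.X i) hx₄ y, Gam.gam_zero _ _ _, ?_, ?_⟩
  · show (StalkMod.F O x).map (C.d n k) (sg (C.X n) hx₄ z₀) = 0
    rw [← sg_ap, ← rM_ap, ← ap_comp, C.iCycles_d, ap_zero, rM_zero]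
    exact map_zero (StalkMod.germ (C.X k) x hx₄)
  · show sg (D.X n) hxW z = (StalkMod.F O x).map (φ.f n) (sg (C.X n) hx₄ z₀) +
      (StalkMod.F O x).map (D.d i n) (sg (D.X i) hx₄ y)
    rw [← sg_ap, ← sg_ap, hy, ← rM_ap, ← ap_comp (C.iCycles n), ← map_add (StalkMod.germ (D.X n) x hx₄),
      add_sub_cancel, ← sg_rM (e₄.trans (e₃.trans (e₂.trans e₁))) hx₄, rM_rM]

theorem inj_zero (φ : C ⟶ D) [QuasiIso φ] : Gam.Inj (gf f hxV) (SCmap x φ) 0 := by
  intro i n k hin hnk p _ hp q _ hpq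
  obtain ⟨W, e, hxW, z, rfl⟩ := exists_sg_le (M := C.X n) p hxV
  obtain ⟨W₀, e₀, hx₀, y', rfl⟩ := exists_sg_le (M := D.X i) q hxW
  change (StalkMod.F O x).map (C.d n k) (sg (C.X n) hxW z) = 0 at hp
  change (StalkMod.F O x).map (φ.f n) (sg (C.X n) hxW z) = (StalkMod.F O x).map (D.d i n) (sg (D.X i) hx₀ y') at hpq
  rw [← sg_ap] at hp
  rw [← sg_ap, ← sg_ap, ← sg_rM e₀ hx₀] at hpq
  obtain ⟨W₁, e₁, hx₁, hz⟩ := exists_eq_of_sg_eq hxW (t := 0)
    (hp.trans (map_zero (StalkMod.germ (C.X k) x hxW)).symm)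
  rw [rM_zero, rM_ap] at hz
  obtain ⟨W₂, e₂, hx₂, hzy⟩ := exists_eq_of_sg_eq hx₀ hpq
  rw [rM_rM] at hzy
  obtain ⟨W₃, e₃, hx₃, c, hc⟩ := exists_lift_exact (exact_cycles C n k hnk) (rM _ (inf_le_left : W₁ ⊓ W₂ ≤ W₁)
    (rM (C.X n) e₁ z)) (by rw [← rM_ap, hz, rM_zero]) (W := W₁ ⊓ W₂) (x := x) ⟨hx₁, hx₂⟩
  let y₃ : SM (D.X i) W₃ := rM _ ((e₃.trans inf_le_right).trans e₂) y'
  have h1 : ap (HomologicalComplex.cyclesMap φ n) W₃ c = ap (D.toCycles i n) W₃ y₃ := by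
    refine ap_injective (D.iCycles n) W₃ ?_
    rw [← ap_comp, ← ap_comp, D.toCycles_i, HomologicalComplex.cyclesMap_i, ap_comp, hc]
    simp only [y₃, rM_rM, ← rM_ap]
    rw [← rM_rM (D.X n) e₂ (e₃.trans inf_le_right), ← hzy, rM_rM]
  have hq : QuasiIsoAt φ n := (‹QuasiIso φ›).quasiIsoAt n
  haveI := (quasiIsoAt_iff_isIso_homologyMap φ n).1 hq
  have h2 : ap (C.homologyπ n) W₃ c = 0 := by
    refine ap_injective (HomologicalComplex.homologyMap φ n) W₃ ?_
    rw [← ap_comp, HomologicalComplex.homologyπ_naturality, ap_comp, h1, ← ap_comp, D.toCycles_comp_homologyπ, map_zero,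
      ap_zero]
  obtain ⟨W₄, e₄, hx₄, y, hy⟩ := exists_lift_exact (exact_homology C i n hin) c h2 hx₃
  replace hy := congrArg (ap (C.iCycles n) W₄) hy
  rw [← ap_comp, C.toCycles_i, ← rM_ap, hc, rM_rM, rM_rM] at hy
  refine ⟨sg (C.X i) hx₄ y, Gam.gam_zero _ _ _, ?_⟩
  show sg (C.X n) hxW z = (StalkMod.F O x).map (C.d i n) (sg (C.X i) hx₄ y)
  rw [← sg_ap, hy, sg_rM, sg_rM]

theorem γ_natural (α : M ⟶ N) (q : (StalkMod.F O x).obj ((_root_.FTors.gamma O I).obj M)) :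
    (StalkMod.F O x).map (γI I N) ((StalkMod.F O x).map ((_root_.FTors.gamma O I).map α) q) =
      (StalkMod.F O x).map α ((StalkMod.F O x).map (γI I M) q) := by
  have h := congrArg (fun β : (_root_.FTors.gamma O I).obj M ⟶ N => (StalkMod.F O x).map β)
    ((_root_.FTors.gammaι I).naturality α)
  simp only [Functor.id_map, Functor.map_comp] at h
  exact congrArg (fun β : (StalkMod.F O x).obj ((_root_.FTors.gamma O I).obj M) ⟶ (StalkMod.F O x).obj N => β q) h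

/-- Complexes all whose stalks allow division on a chart at each point. -/
def DivCharts (I : _root_.FTors.IdealFam O) (C D : CochainComplex (ModSite.Mod O) ℤ) : Prop :=
  ∀ x : Z, ∃ (V : Opens Z) (r : ℕ) (f : Fin r → OS O V) (hx : x ∈ V), Chart I V f ∧
    (∀ n, Gam.Div (gf f hx) ((StalkMod.F O x).obj (C.X n))) ∧
    ∀ n, Gam.Div (gf f hx) ((StalkMod.F O x).obj (D.X n))

/-- The torsion subcomplex functor preserves quasi-isomorphisms between complexes with divisibility. -/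
theorem quasiIso_gC_map (φ : C ⟶ D) [QuasiIso φ] (hD : DivCharts I C D) :
    QuasiIso (((_root_.FTors.gamma O I).mapHomologicalComplex (ComplexShape.up ℤ)).map φ) := by
  rw [quasiIso_iff]
  intro n
  refine Groth.L04.FTorsD.quasiIsoAt_of_local n _ (fun U z hz x hx => ?_) fun U w y hw hwy x hx => ?_
  · obtain ⟨V, r, f, hxV, hV, hdC, hdD⟩ := hD x
    have hP := (Gam.surj_inj hdC hdD ⟨surj_zero hxV φ, inj_zero hxV φ⟩ (le_refl r)).1 (n - 1) n (n + 1) (by omega) rfl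
      _ (map_γ_mem hxV hV (sg _ hx z)) (by
        show (StalkMod.F O x).map (D.d n (n + 1)) _ = 0
        rw [← γ_natural, ← sg_ap,
          show ap ((_root_.FTors.gamma O I).map (D.d n (n + 1))) U z = 0 from hz,
          show sg ((_root_.FTors.gamma O I).obj (D.X (n + 1))) hx 0 = 0 from map_zero _, map_zero])
    obtain ⟨p, hp, q, hq, hpd, hpq⟩ := hP
    obtain ⟨p', rfl⟩ := exists_of_mem hxV hV (M := C.X n) hp
    obtain ⟨q', rfl⟩ := exists_of_mem hxV hV (M := D.X (n - 1)) hq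
    change (StalkMod.F O x).map (C.d n (n + 1)) _ = 0 at hpd
    change (StalkMod.F O x).map (γI I (D.X n)) _ = (StalkMod.F O x).map (φ.f n) _ +
      (StalkMod.F O x).map (D.d (n - 1) n) _ at hpq
    rw [← γ_natural] at hpd
    rw [← γ_natural, ← γ_natural, ← map_add] at hpq
    obtain ⟨W₁, e₁, hx₁, w, rfl⟩ := exists_sg_le p' hx
    obtain ⟨W₂, e₂, hx₂, y, rfl⟩ := exists_sg_le q' hx₁
    replace hpd := injective_map (γI I (C.X (n + 1))) (hpd.trans (map_zero _).symm)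
    replace hpq := injective_map (γI I (D.X n)) hpq
    rw [← sg_ap] at hpd
    rw [← sg_ap, ← sg_ap, ← sg_rM (e₂.trans e₁) hx₂, ← sg_rM e₂ hx₂,
      ← map_add (StalkMod.germ ((_root_.FTors.gamma O I).obj (D.X n)) x hx₂)] at hpq
    obtain ⟨W₃, e₃, hx₃, hwd⟩ := exists_eq_of_sg_eq hx₁ (t := 0)
      (hpd.trans (map_zero (StalkMod.germ ((_root_.FTors.gamma O I).obj (C.X (n + 1))) x hx₁)).symm)
    obtain ⟨W₄, e₄, hx₄, heq⟩ := exists_eq_of_sg_eq hx₂ hpq
    rw [rM_zero, rM_ap] at hwd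
    simp only [rM_add, rM_ap, rM_rM] at heq
    refine ⟨W₃ ⊓ W₄, (inf_le_left.trans e₃).trans e₁, ⟨hx₃, hx₄⟩, rM _ (inf_le_left.trans e₃) w,
      rM _ (inf_le_right.trans e₄) y, ?_, ?_⟩
    · show ap ((_root_.FTors.gamma O I).map (C.d n (n + 1))) _ (rM _ _ w) = 0
      rw [← rM_rM _ e₃ inf_le_left, ← rM_ap, hwd, rM_zero]
    · have h := congrArg (rM ((_root_.FTors.gamma O I).obj (D.X n)) (inf_le_right : W₃ ⊓ W₄ ≤ W₄)) heq
      simp only [rM_add, rM_ap, rM_rM] at h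
      exact h
  · obtain ⟨V, r, f, hxV, hV, hdC, hdD⟩ := hD x
    have hP := (Gam.surj_inj hdC hdD ⟨surj_zero hxV φ, inj_zero hxV φ⟩ (le_refl r)).2 (n - 1) n (n + 1) (by omega) rfl
      _ (map_γ_mem hxV hV (sg _ hx w)) (by
        show (StalkMod.F O x).map (C.d n (n + 1)) _ = 0
        rw [← γ_natural, ← sg_ap,
          show ap ((_root_.FTors.gamma O I).map (C.d n (n + 1))) U w = 0 from hw,
          show sg ((_root_.FTors.gamma O I).obj (C.X (n + 1))) hx 0 = 0 from map_zero _, map_zero])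
      _ (map_γ_mem hxV hV (sg _ hx y)) (by
        show (StalkMod.F O x).map (φ.f n) _ = (StalkMod.F O x).map (D.d (n - 1) n) _
        rw [← γ_natural, ← γ_natural, ← sg_ap, ← sg_ap, ← sg_ap, ← sg_ap,
          show ap ((_root_.FTors.gamma O I).map (φ.f n)) U w = ap ((_root_.FTors.gamma O I).map (D.d (n - 1) n)) U y
            from hwy])
    obtain ⟨p, hp, hpq⟩ := hP
    obtain ⟨p', rfl⟩ := exists_of_mem hxV hV (M := C.X (n - 1)) hp
    change (StalkMod.F O x).map (γI I (C.X n)) _ = (StalkMod.F O x).map (C.d (n - 1) n) _ at hpq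
    rw [← γ_natural] at hpq
    obtain ⟨W₁, e₁, hx₁, v, rfl⟩ := exists_sg_le p' hx
    replace hpq := injective_map (γI I (C.X n)) hpq
    rw [← sg_ap, ← sg_rM e₁ hx₁] at hpq
    obtain ⟨W₂, e₂, hx₂, heq⟩ := exists_eq_of_sg_eq hx₁ hpq
    rw [rM_rM, rM_ap] at heq
    exact ⟨W₂, e₂.trans e₁, hx₂, rM _ e₂ v, heq.symm⟩

end Groth.L28.RGamma
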