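import Groth.Prelude.Def_ModSite
import Mathlib.Algebra.Category.ModuleCat.Stalk
import Mathlib.Topology.Sheaves.Stalks
import Mathlib.Topology.Sheaves.SheafCondition.UniqueGluing
import Mathlib.Algebra.Category.ModuleCat.ChangeOfRings
import Mathlib.CategoryTheory.Adjunction.Unique
import Mathlib.Topology.Sheaves.CommRingCat

/-!
# Stalks and skyscrapers of modules on a ringed space, and stalks of inverse images
-/

set_option autoImplicit false
set_option linter.style.haveILetI false
set_option backward.isDefEq.respectTransparency false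
set_option backward.isDefEq.respectTransparency.types false

universe u

open CategoryTheory CategoryTheory.Limits Opposite TopologicalSpace

noncomputable section

namespace Groth.L28.RGamma.StalkMod

variable {Z : TopCat.{u}} {O : Sheaf (Opens.grothendieckTopology Z) CommRingCat.{u}}

/-- the presheaf of functions -/
abbrev oP (O : Sheaf (Opens.grothendieckTopology Z) CommRingCat.{u}) : TopCat.Presheaf CommRingCat.{u} Z := O.obj

/-- the presheaf of modules underlying a sheaf of modules -/
abbrev pre (M : ModSite.Mod O) :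
    PresheafOfModules.{u} ((oP O) ⋙ forget₂ CommRingCat RingCat) := M.val

/-- the stalk of a module -/
abbrev St (M : ModSite.Mod O) (x : Z) : Type u :=
  ↑(TopCat.Presheaf.stalk (PresheafOfModules.presheaf (pre M)) x)

variable (M : ModSite.Mod O) (x : Z)

/-- germ of a section -/
def germ {U : Opens Z} (hx : x ∈ U) : (pre M).obj (op U) →+ St M x :=
  (TopCat.Presheaf.germ (PresheafOfModules.presheaf (pre M)) U x hx).hom

theorem germ_smul {U : Opens Z} (hx : x ∈ U) (r : (oP O).obj (op U)) (m : (pre M).obj (op U)) :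
    germ M x hx (r • m) = (oP O).germ U x hx r • germ M x hx m :=
  PresheafOfModules.germ_smul (R := (oP O)) (pre M) x U hx r m

theorem exists_germ (p : St M x) : ∃ (U : Opens Z) (hx : x ∈ U) (m : (pre M).obj (op U)), germ M x hx m = p := by
  obtain ⟨U, hx, m, rfl⟩ := TopCat.Presheaf.exists_germ_eq (F := PresheafOfModules.presheaf (pre M)) (x := x) p
  exact ⟨U, hx, m, rfl⟩

theorem germ_res {U V : Opens Z} (i : V ⟶ U) (hx : x ∈ V) (m : (pre M).obj (op U)) :
    germ M x hx ((pre M).map i.op m) = germ M x (i.le hx) m :=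
  TopCat.Presheaf.germ_res_apply (PresheafOfModules.presheaf (pre M)) i x hx m

theorem section_ext {U : Opens Z} (m n : (pre M).obj (op U))
    (h : ∀ (z : Z) (hz : z ∈ U), germ M z hz m = germ M z hz n) : m = n :=
  TopCat.Presheaf.section_ext (X := Z) ⟨PresheafOfModules.presheaf (pre M), M.isSheaf⟩ U m n h

variable {M}

/-- the map on stalks -/
def mapFun {N : ModSite.Mod O} (φ : M ⟶ N) : St M x →+ St N x :=
  ((TopCat.Presheaf.stalkFunctor AddCommGrpCat.{u} x).map ((PresheafOfModules.toPresheaf _).map φ.val)).hom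

theorem mapFun_germ {N : ModSite.Mod O} (φ : M ⟶ N) {U : Opens Z} (hx : x ∈ U) (m : (pre M).obj (op U)) :
    mapFun x φ (germ M x hx m) = germ N x hx ((φ.val.app (op U)).hom m) :=
  TopCat.Presheaf.stalkFunctor_map_germ_apply U x hx _ _

theorem mapFun_smul {N : ModSite.Mod O} (φ : M ⟶ N) (r : (oP O).stalk x) (p : St M x) :
    mapFun x φ (r • p) = r • mapFun x φ p := by
  obtain ⟨W, hW, m, rfl⟩ := exists_germ M x p
  obtain ⟨V, hV, a, rfl⟩ := TopCat.Presheaf.exists_germ_eq (F := (oP O)) (x := x) r
  let iW : W ⊓ V ⟶ W := homOfLE inf_le_left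
  let iV : W ⊓ V ⟶ V := homOfLE inf_le_right
  have hWV : x ∈ W ⊓ V := ⟨hW, hV⟩
  rw [← germ_res M x iW hWV m, ← TopCat.Presheaf.germ_res_apply (oP O) iV x hWV a, ← germ_smul,
    mapFun_germ, mapFun_germ, ← germ_smul]
  exact congrArg _ ((φ.val.app (op (W ⊓ V))).hom.map_smul _ _)

variable (O)

/-- the stalk functor -/
def F : ModSite.Mod O ⥤ ModuleCat.{u} ((oP O).stalk x) where
  obj M := ModuleCat.of ((oP O).stalk x) (St M x)
  map φ := ModuleCat.ofHom { toFun := mapFun x φ, map_add' := map_add _, map_smul' := mapFun_smul x φ }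
  map_id M := by
    ext p
    obtain ⟨U, hU, m, rfl⟩ := exists_germ M x p
    exact mapFun_germ x (𝟙 M) hU m
  map_comp f g := by
    ext p
    obtain ⟨U, hU, m, rfl⟩ := exists_germ _ x p
    exact (mapFun_germ x (f ≫ g) hU m).trans
      ((congrArg (mapFun x g) (mapFun_germ x f hU m)).trans (mapFun_germ x g hU _)).symm

variable {O}

theorem F_map_germ {N : ModSite.Mod O} (φ : M ⟶ N) {U : Opens Z} (hx : x ∈ U) (m : (pre M).obj (op U)) :
    (F O x).map φ (germ M x hx m) = germ N x hx ((φ.val.app (op U)).hom m) :=
  mapFun_germ x φ hx m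

theorem mono_of_injective {N : ModSite.Mod O} (φ : M ⟶ N)
    (h : ∀ z : Z, Function.Injective ((F O z).map φ)) : Mono φ := by
  refine ⟨fun {P} a b hab => SheafOfModules.hom_ext (PresheafOfModules.hom_ext ?_)⟩
  rintro ⟨U⟩
  refine ModuleCat.hom_ext (LinearMap.ext fun p => section_ext M _ _ fun z hz => h z ?_)
  rw [F_map_germ, F_map_germ]
  exact congrArg (germ N z hz) (congrArg (fun k : P ⟶ N => (k.val.app (op U)).hom p) hab)

section Sky

variable (N : ModuleCat.{u} ((oP O).stalk x))

/-- sections over `U` -/
def Sec (U : Opens Z) : Type u := PLift (x ∈ U) → N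

instance (U : Opens Z) : AddCommGroup (Sec x N U) :=
  inferInstanceAs (AddCommGroup (PLift (x ∈ U) → N))

/-- scalars act through germs -/
instance secModule (U : Opens Z) : Module ((oP O).obj (op U)) (Sec x N U) where
  smul r s := fun h => ((oP O).germ U x h.down r : (oP O).stalk x) • s h
  one_smul s := funext fun h => by
    change ((oP O).germ U x h.down (1 : (oP O).obj (op U)) : (oP O).stalk x) • s h = _
    rw [map_one, one_smul]
  mul_smul r r' s := funext fun h => by
    change ((oP O).germ U x h.down (r * r') : (oP O).stalk x) • s h = _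
    rw [map_mul, mul_smul]
    rfl
  smul_zero r := funext fun h => smul_zero _
  smul_add r s t := funext fun h => smul_add _ _ _
  add_smul r r' s := funext fun h => by
    change ((oP O).germ U x h.down (r + r') : (oP O).stalk x) • s h = _
    rw [map_add, add_smul]
    rfl
  zero_smul s := funext fun h => by
    change ((oP O).germ U x h.down (0 : (oP O).obj (op U)) : (oP O).stalk x) • s h = _
    rw [map_zero, zero_smul]
    rfl

/-- the abelian presheaf -/
def abPre : (Opens Z)ᵒᵖ ⥤ Ab.{u} where
  obj U := AddCommGrpCat.of (Sec x N U.unop)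
  map {U V} i := AddCommGrpCat.ofHom
    { toFun := fun s h => s ⟨i.unop.le h.down⟩
      map_zero' := rfl
      map_add' := fun _ _ => rfl }

instance (U : (Opens Z)ᵒᵖ) :
    Module (((oP O) ⋙ forget₂ CommRingCat RingCat).obj U) ((abPre x N).obj U) :=
  secModule x N U.unop

theorem abPre_map_smul ⦃U V : (Opens Z)ᵒᵖ⦄ (i : U ⟶ V)
    (r : ((oP O) ⋙ forget₂ CommRingCat RingCat).obj U) (m : (abPre x N).obj U) :
    (abPre x N).map i (r • m) =
      ((oP O) ⋙ forget₂ CommRingCat RingCat).map i r • (abPre x N).map i m := by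
  funext h
  change ((oP O).germ U.unop x (i.unop.le h.down) r : (oP O).stalk x) • m ⟨_⟩ =
    ((oP O).germ V.unop x h.down ((oP O).map i r) : (oP O).stalk x) • m ⟨_⟩
  exact congrArg (fun a : (oP O).stalk x => a • m ⟨i.unop.le h.down⟩)
    (TopCat.Presheaf.germ_res_apply (oP O) i.unop x h.down r).symm

theorem abPre_isSheaf : TopCat.Presheaf.IsSheaf (abPre x N) := by
  rw [TopCat.Presheaf.isSheaf_iff_isSheafUniqueGluing]
  intro ι U sf hc
  classical
  let s : Sec x N (iSup U) := fun h =>
    sf (Opens.mem_iSup.1 h.down).choose ⟨(Opens.mem_iSup.1 h.down).choose_spec⟩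
  refine ⟨s, fun i => funext fun h => ?_, fun t ht => funext fun h => ?_⟩
  · exact congrFun (hc _ i) ⟨⟨(Opens.mem_iSup.1 ((Opens.leSupr U i).le h.down)).choose_spec, h.down⟩⟩
  · exact congrFun (ht (Opens.mem_iSup.1 h.down).choose) ⟨(Opens.mem_iSup.1 h.down).choose_spec⟩

/-- the skyscraper module -/
def sky : ModSite.Mod O where
  val := PresheafOfModules.ofPresheaf (R := (oP O) ⋙ forget₂ CommRingCat RingCat) (abPre x N)
    (abPre_map_smul x N)
  isSheaf := abPre_isSheaf x N

/-- functoriality -/
def skyMap {N N' : ModuleCat.{u} ((oP O).stalk x)} (f : N ⟶ N') : sky x N ⟶ sky x N' :=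
  ⟨PresheafOfModules.homMk
    { app := fun U => AddCommGrpCat.ofHom
        { toFun := fun (s : Sec x N U.unop) => (fun h => f (s h) : Sec x N' U.unop)
          map_zero' := funext fun h => map_zero f.hom
          map_add' := fun s t => funext fun h => map_add f.hom _ _ }
      naturality := fun _ _ _ => rfl }
    (fun U r m => funext fun h => f.hom.map_smul _ _)⟩

variable (O)

/-- the skyscraper functor -/
def skyF : ModuleCat.{u} ((oP O).stalk x) ⥤ ModSite.Mod O where
  obj := sky x
  map f := skyMap x f
  map_id N := rfl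
  map_comp f g := rfl

variable {O}
variable {N} (M)

/-- from stalk maps to maps into the skyscraper -/
def toHom (φ : (F O x).obj M ⟶ N) : M ⟶ sky x N :=
  ⟨PresheafOfModules.homMk
    { app := fun U => AddCommGrpCat.ofHom
        { toFun := fun m => (fun h => φ (germ M x h.down m) : Sec x N U.unop)
          map_zero' := funext fun h => by rw [map_zero]; exact map_zero φ.hom
          map_add' := fun a b => funext fun h => by rw [map_add]; exact map_add φ.hom _ _ }
      naturality := fun U V i => by
        ext m
        funext h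
        exact congrArg φ (germ_res M x i.unop h.down m) }
    (fun U r m => funext fun h => by
      change φ (germ M x h.down (r • m)) = ((oP O).germ U.unop x h.down r : (oP O).stalk x) • _
      rw [germ_smul]
      exact φ.hom.map_smul _ _)⟩

variable {M} (ψ : M ⟶ sky x N)

/-- value at a germ -/
def evalHom {U : Opens Z} (hx : x ∈ U) : (pre M).obj (op U) →+ N where
  toFun m := ((ψ.val.app (op U)).hom m : Sec x N U) ⟨hx⟩
  map_zero' := congrFun (map_zero (ψ.val.app (op U)).hom) _
  map_add' a b := congrFun (map_add (ψ.val.app (op U)).hom a b) _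

/-- cocone on germs -/
def evalNT :
    (OpenNhds.inclusion x).op ⋙ PresheafOfModules.presheaf (pre M) ⟶
    (Functor.const _).obj (AddCommGrpCat.of N) where
  app U := AddCommGrpCat.ofHom (evalHom x ψ U.unop.2)
  naturality U V i := by
    refine AddCommGrpCat.hom_ext (AddMonoidHom.ext fun m => ?_)
    exact congrFun (ConcreteCategory.congr_hom
      (((PresheafOfModules.toPresheaf _).map ψ.val).naturality ((OpenNhds.inclusion x).map i.unop).op) m)
      ⟨V.unop.2⟩

/-- additive map on the stalk -/
def evalStalk : St M x →+ N :=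
  (colimit.desc _ { pt := AddCommGrpCat.of N, ι := evalNT x ψ }).hom

theorem evalStalk_germ {U : Opens Z} (hx : x ∈ U) (m : (pre M).obj (op U)) :
    evalStalk x ψ (germ M x hx m) = ((ψ.val.app (op U)).hom m : Sec x N U) ⟨hx⟩ :=
  ConcreteCategory.congr_hom (colimit.ι_desc { pt := AddCommGrpCat.of N, ι := evalNT x ψ } (op ⟨U, hx⟩)) m

/-- from maps into the skyscraper to stalk maps -/
def ofHom : (F O x).obj M ⟶ N :=
  ModuleCat.ofHom (X := (F O x).obj M)
    { toFun := evalStalk x ψ
      map_add' := map_add _
      map_smul' := fun r p => by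
        obtain ⟨W, hW, m, rfl⟩ := exists_germ M x p
        obtain ⟨V, hV, a, rfl⟩ := TopCat.Presheaf.exists_germ_eq (F := (oP O)) (x := x) r
        let iW : W ⊓ V ⟶ W := homOfLE inf_le_left
        let iV : W ⊓ V ⟶ V := homOfLE inf_le_right
        have hWV : x ∈ W ⊓ V := ⟨hW, hV⟩
        change evalStalk x ψ (_ • _) = (oP O).germ V x hV a • _
        rw [← germ_res M x iW hWV m, ← TopCat.Presheaf.germ_res_apply (oP O) iV x hWV a,
          ← germ_smul, evalStalk_germ, evalStalk_germ]
        exact congrFun ((ψ.val.app (op (W ⊓ V))).hom.map_smul ((oP O).map iV.op a)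
          ((pre M).map iW.op m)) ⟨hWV⟩ }

theorem ofHom_germ {U : Opens Z} (hx : x ∈ U) (m : (pre M).obj (op U)) :
    ofHom x ψ (germ M x hx m) = ((ψ.val.app (op U)).hom m : Sec x N U) ⟨hx⟩ := evalStalk_germ x ψ hx m

variable (O)

/-- stalk is left adjoint to skyscraper -/
def adj : F O x ⊣ skyF O x :=
  Adjunction.mkOfHomEquiv
    { homEquiv := fun M N =>
        { toFun := toHom M x
          invFun := ofHom x
          left_inv := fun φ => by
            ext p
            obtain ⟨U, hU, m, rfl⟩ := exists_germ M x p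
            exact ofHom_germ x _ hU m
          right_inv := fun ψ => by
            refine SheafOfModules.hom_ext (PresheafOfModules.hom_ext ?_)
            rintro ⟨U⟩
            ext m
            exact funext fun h => ofHom_germ x ψ h.down m }
      homEquiv_naturality_left_symm := fun {M' M N} f g => by
        ext p
        obtain ⟨U, hU, m, rfl⟩ := exists_germ M' x p
        change ofHom x (f ≫ g) (germ M' x hU m) = ofHom x g ((F O x).map f (germ M' x hU m))
        rw [ofHom_germ]
        refine Eq.trans ?_ (congrArg (ofHom x g) (F_map_germ x f hU m)).symm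
        exact (ofHom_germ x g hU _).symm
      homEquiv_naturality_right := fun {M N N'} f g => rfl }

end Sky

section Pull

variable {Y : TopCat.{u}} {OY : Sheaf (Opens.grothendieckTopology Y) CommRingCat.{u}} (g : Z ⟶ Y)
  (c : OY ⟶ ((Opens.map g).sheafPushforwardContinuous CommRingCat.{u}
    (Opens.grothendieckTopology Y) (Opens.grothendieckTopology Z)).obj O) (z : Z)

/-- the map of stalks of functions -/
abbrev φ : (oP OY).stalk (g z) →+* (oP O).stalk z :=
  ((TopCat.Presheaf.stalkFunctor CommRingCat.{u} (g z)).map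
      (show oP OY ⟶ (TopCat.Presheaf.pushforward CommRingCat.{u} g).obj (oP O) from c.hom) ≫
    TopCat.Presheaf.stalkPushforward CommRingCat.{u} g (oP O) z).hom

theorem germ_φ (U : Opens Y) (hz : g z ∈ U) (r : (oP OY).obj (op U)) :
    φ g c z ((oP OY).germ U (g z) hz r) = (oP O).germ ((Opens.map g).obj U) z hz ((c.hom.app (op U)).hom r) := by
  show TopCat.Presheaf.stalkPushforward CommRingCat.{u} g (oP O) z
    ((TopCat.Presheaf.stalkFunctor CommRingCat.{u} (g z)).map _ ((oP OY).germ U (g z) hz r)) = _
  erw [TopCat.Presheaf.stalkFunctor_map_germ_apply, TopCat.Presheaf.stalkPushforward_germ_apply]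
  rfl

/-- the morphism of ringed spaces -/
abbrev mor : ModSite.RMor O OY := ModSite.RMor.ofFlat (Opens.map g) c

/-- pushforward of a skyscraper is a skyscraper -/
def pushSkyHom (N : ModuleCat.{u} ((oP O).stalk z)) :
    (mor g c).push.obj (sky z N) ⟶ sky (g z) ((ModuleCat.restrictScalars (φ g c z)).obj N) :=
  ⟨PresheafOfModules.homMk
    { app := fun U => AddCommGrpCat.ofHom
        { toFun := fun (s : Sec z N ((Opens.map g).obj U.unop)) =>
            ((fun h => s ⟨h.down⟩) : Sec (g z) ((ModuleCat.restrictScalars (φ g c z)).obj N) U.unop)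
          map_zero' := rfl
          map_add' := fun _ _ => rfl }
      naturality := fun U V i => rfl }
    (fun U r (s : Sec z N ((Opens.map g).obj U.unop)) => funext fun h => by
      change ((oP O).germ _ z h.down ((c.hom.app (op U.unop)).hom r) : (oP O).stalk z) • s ⟨h.down⟩ =
        (φ g c z) ((oP OY).germ U.unop (g z) h.down r) • (show N from s ⟨h.down⟩)
      rw [germ_φ g c z U.unop h.down r])⟩

theorem isIso_pushSkyHom (N : ModuleCat.{u} ((oP O).stalk z)) : IsIso (pushSkyHom g c z N) := by
  haveI : IsIso ((SheafOfModules.forget _).map (pushSkyHom g c z N)) := by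
    haveI : IsIso ((PresheafOfModules.toPresheaf _).map ((SheafOfModules.forget _).map (pushSkyHom g c z N))) := by
      haveI : ∀ U, IsIso (((PresheafOfModules.toPresheaf _).map
          ((SheafOfModules.forget _).map (pushSkyHom g c z N))).app U) := fun U => by
        rw [ConcreteCategory.isIso_iff_bijective]
        exact ⟨fun s t h => funext fun a => congrFun h ⟨a.down⟩, fun s => ⟨fun a => s ⟨a.down⟩, rfl⟩⟩
      exact NatIso.isIso_of_isIso_app _
    exact isIso_of_reflects_iso _ (PresheafOfModules.toPresheaf _)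
  exact isIso_of_reflects_iso _ (SheafOfModules.forget _)

/-- naturally -/
def pushSkyIso : skyF O z ⋙ (mor g c).push ≅ ModuleCat.restrictScalars (φ g c z) ⋙ skyF OY (g z) :=
  NatIso.ofComponents (fun N => @asIso _ _ _ _ (pushSkyHom g c z N) (isIso_pushSkyHom g c z N)) (fun {N N'} k => by
    refine SheafOfModules.hom_ext (PresheafOfModules.hom_ext ?_)
    rintro ⟨U⟩
    ext s
    rfl)

/-- the stalk of an inverse image -/
def stalkIso : (mor g c).pull ⋙ F O z ≅ F OY (g z) ⋙ ModuleCat.extendScalars (φ g c z) :=
  ((mor g c).adj.comp (adj O z)).leftAdjointUniq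
    (((adj OY (g z)).comp (ModuleCat.extendRestrictScalarsAdj (φ g c z))).ofNatIsoRight (pushSkyIso g c z).symm)

end Pull

end Groth.L28.RGamma.StalkMod
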